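import Groth.Agent.MdlA1.LimClosed
import Groth.Agent.ModPairLib.Basic
import Groth.Agent.S7382
import Mathlib.AlgebraicGeometry.ZariskisMainTheorem

/-!
# Zariski's main theorem: finite factorization over a quasi-compact quasi-separated base
-/

universe u

set_option autoImplicit false
set_option linter.style.haveILetI false
set_option backward.isDefEq.respectTransparency false

open CategoryTheory CategoryTheory.Limits AlgebraicGeometry TopologicalSpace

namespace Groth.Agent.LocImm10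

/-- A quasi-finite separated morphism is an open immersion followed by a finite morphism. -/
theorem exists_finite_factor {T S : Scheme.{u}} [CompactSpace S] [QuasiSeparatedSpace S] (f : T ⟶ S)
    [IsSeparated f] [QuasiCompact f] [LocallyOfFiniteType f] [LocallyQuasiFinite f] :
    ∃ (Z : Scheme.{u}) (i : T ⟶ Z) (h : Z ⟶ S), IsOpenImmersion i ∧ IsFinite h ∧ i ≫ h = f := by
  classical
  obtain ⟨I, _, hdir, _, D, c, hc, hD, ⟨e⟩⟩ := S7382.result f.fromNormalization
  haveI : IsDirectedOrder I := hdir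
  haveI : IsConnected Iᵒᵖ := IsCofiltered.isConnected _
  let F := D ⋙ Over.forget S
  let cF : Cone F := (Over.forget S).mapCone c
  have hcF : IsLimit cF := isLimitOfPreserves (Over.forget S) hc
  haveI hA : ∀ {i j : Iᵒᵖ} (a : i ⟶ j), IsAffineHom (F.map a) := by
    intro i j a
    haveI := (hD i).1
    haveI := (hD j).1
    haveI : IsAffineHom ((D.map a).left ≫ (D.obj j).hom) := by rw [Over.w]; infer_instance
    exact IsAffineHom.of_comp (D.map a).left (D.obj j).hom
  haveI : CompactSpace T := QuasiCompact.compactSpace_of_compactSpace f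
  have hw : ∀ i, cF.π.app i ≫ (D.obj i).hom = c.pt.hom := fun i => Over.w (c.π.app i)
  -- the embedding of the source in the limit
  haveI : IsIso e.inv.left := inferInstanceAs (IsIso ((Over.forget S).map e.inv))
  let j₁ : T ⟶ cF.pt := f.toNormalization ≫ e.inv.left
  haveI : IsOpenImmersion j₁ := inferInstanceAs (IsOpenImmersion (f.toNormalization ≫ e.inv.left))
  have hj₁ : j₁ ≫ c.pt.hom = f :=
    (Category.assoc _ _ _).trans
      ((congrArg (f.toNormalization ≫ ·) (Over.w e.inv)).trans f.toNormalization_fromNormalization)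
  haveI hint : IsIntegralHom c.pt.hom := by
    have : c.pt.hom = e.hom.left ≫ f.fromNormalization := (Over.w e.hom).symm
    rw [this]
    haveI : IsIso e.hom.left := inferInstanceAs (IsIso ((Over.forget S).map e.hom))
    infer_instance
  obtain ⟨i₀, Ω, hΩ, hpre⟩ := exists_preimage_eq F cF hcF j₁.opensRange (isCompact_range j₁.continuous)
  let W : cF.pt.Opens := cF.π.app i₀ ⁻¹ᵁ Ω
  let eT : T ≅ (W : Scheme.{u}) := IsOpenImmersion.isoOfRangeEq j₁ W.ι (by
    rw [Scheme.Opens.range_ι, show W = j₁.opensRange from hpre]; rfl)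
  have heT : eT.hom ≫ W.ι = j₁ := IsOpenImmersion.isoOfRangeEq_hom_fac _ _ _
  let E := opensCone F cF i₀ Ω
  let a₀ : Over i₀ := Over.mk (𝟙 i₀)
  let pE : ∀ l, (W : Scheme.{u}) ⟶ (opensDiagram F i₀ Ω).obj l := fun l => E.π.app l
  haveI : CompactSpace ((opensDiagram F i₀ Ω).obj a₀) := by
    show CompactSpace (F.map (𝟙 i₀) ⁻¹ᵁ Ω : Scheme.{u})
    rw [F.map_id]
    exact isCompact_iff_compactSpace.mp hΩ
  haveI hfinE : IsFinite (pE a₀) := by
    haveI := (hD i₀).1
    haveI hπ : IsIntegralHom (cF.π.app i₀) := by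
      haveI : IsIntegralHom (cF.π.app i₀ ≫ (D.obj i₀).hom) := by rw [hw]; exact hint
      exact IsIntegralHom.of_comp (cF.π.app i₀) (D.obj i₀).hom
    haveI : IsIntegralHom (pE a₀) := by
      refine (MdlA1.LimClosed.resLE_iff (P := @IsIntegralHom) (cF.π.app i₀) _ _ _ ?_).2
        (IsZariskiLocalAtTarget.restrict (P := @IsIntegralHom) hπ _)
      show cF.π.app i₀ ⁻¹ᵁ Ω = cF.π.app i₀ ⁻¹ᵁ (F.map (𝟙 i₀) ⁻¹ᵁ Ω)
      rw [F.map_id]; rfl
    haveI : LocallyOfFiniteType (pE a₀) := by
      let σ : (opensDiagram F i₀ Ω).obj a₀ ⟶ S := (F.map (𝟙 i₀) ⁻¹ᵁ Ω).ι ≫ (D.obj i₀).hom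
      have hσ : pE a₀ ≫ σ = eT.inv ≫ f := by
        rw [← hj₁, ← heT, Category.assoc, Iso.inv_hom_id_assoc, ← hw i₀]
        show (cF.π.app i₀).resLE _ _ _ ≫ (F.map (𝟙 i₀) ⁻¹ᵁ Ω).ι ≫ (D.obj i₀).hom = _
        rw [Scheme.Hom.resLE_comp_ι_assoc]
      haveI : LocallyOfFiniteType (pE a₀ ≫ σ) := by rw [hσ]; infer_instance
      exact locallyOfFiniteType_of_comp (pE a₀) σ
    exact (IsFinite.iff_isIntegralHom_and_locallyOfFiniteType _).2 ⟨inferInstance, inferInstance⟩
  haveI : IsFinite (E.π.app a₀) := hfinE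
  obtain ⟨k, -, hk⟩ := MdlA1.LimClosed.exists_isClosedImmersion (opensDiagram F i₀ Ω) E
    (isLimitOpensCone F cF hcF i₀ Ω) a₀
  let Wk : (F.obj k.left).Opens := F.map k.hom ⁻¹ᵁ Ω
  haveI : IsClosedImmersion (pE k) := hk
  let g₁ : T ⟶ (Wk : Scheme.{u}) := eT.hom ≫ pE k
  haveI : IsClosedImmersion g₁ := @IsClosedImmersion.comp _ _ _ eT.hom (pE k) inferInstance hk
  let g : T ⟶ F.obj k.left := g₁ ≫ Wk.ι
  have hg : g ≫ (D.obj k.left).hom = f := by
    rw [← hj₁, ← heT, ← hw k.left]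
    simp only [g, g₁, Category.assoc]
    refine congrArg (eT.hom ≫ ·) ?_
    show (cF.π.app k.left).resLE _ _ _ ≫ (F.map k.hom ⁻¹ᵁ Ω).ι ≫ _ = _
    rw [Scheme.Hom.resLE_comp_ι_assoc]
  haveI hfk : IsFinite (D.obj k.left).hom := (hD k.left).1
  haveI : QuasiCompact (g ≫ (D.obj k.left).hom) := by rw [hg]; infer_instance
  haveI : QuasiCompact g := QuasiCompact.of_comp g (D.obj k.left).hom
  haveI : IsImmersion g := inferInstanceAs (IsImmersion (g₁ ≫ Wk.ι))
  refine ⟨g.image, g.toImage, g.imageι ≫ (D.obj k.left).hom, inferInstance, inferInstance, ?_⟩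
  rw [← Category.assoc, g.toImage_imageι, hg]

end Groth.Agent.LocImm10
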