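import Groth.Agent.LocImm10.Basic

/-!
# Affine preimages for localizing immersions
-/

universe u

set_option linter.style.haveILetI false
set_option backward.isDefEq.respectTransparency false

open CategoryTheory Limits AlgebraicGeometry LocImm

namespace Groth.Agent.LocImm10

variable {X Y : Scheme.{u}}

theorem isLocHom_app_iff (f : X ⟶ Y) {U : Y.Opens} {V : X.Opens} (e : V ≤ f ⁻¹ᵁ U) (h : f ⁻¹ᵁ U = V) :
    IsLocHom (f.appLE U V e).hom ↔ IsLocHom (f.app U).hom := by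
  subst h
  rw [Scheme.Hom.app_eq_appLE]

/-- Every point of the image of a localizing immersion has an affine neighbourhood with affine preimage. -/
theorem exists_affine_preimage [IsNoetherian X] [IsNoetherian Y] {f : X ⟶ Y} (hf : IsLocImmersion f) (x : X)
    (O : Y.Opens) (hO : f x ∈ O) :
    ∃ U : Y.Opens, U ≤ O ∧ f x ∈ U ∧ IsAffineOpen U ∧ IsAffineOpen (f ⁻¹ᵁ U) ∧ IsLocHom (f.app U).hom := by
  obtain ⟨U₀, V₀, e₀, hU₀, hV₀, hle, -, hx, h₀⟩ := exists_chart_within hf.1 x O hO ⊤ trivial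
  obtain ⟨Q, hQ⟩ := (Groth.Agent.S18203.result f hf).1.isInducing.isOpen_iff.1 V₀.2
  obtain ⟨hQo, hQ⟩ := hQ
  have hxQ : f x ∈ Q := by
    have : x ∈ (fun x => f x) ⁻¹' Q := by rw [hQ]; exact hx
    exact this
  obtain ⟨a, hale, hax⟩ := hU₀.exists_basicOpen_le (V := ⟨Q, hQo⟩) ⟨f x, hxQ⟩ (e₀ hx)
  have h1 := isLocHom_appLE_target f hU₀ hV₀ e₀ h₀ a
  have hpre : f ⁻¹ᵁ Y.basicOpen a = X.basicOpen (f.appLE U₀ V₀ e₀ a) := by
    rw [Scheme.basicOpen_appLE, eq_comm, inf_eq_right]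
    intro z hz
    have : z ∈ (fun x => f x) ⁻¹' Q := hale hz
    rwa [hQ] at this
  refine ⟨_, (Y.basicOpen_le a).trans hle, hax, hU₀.basicOpen a, ?_, (isLocHom_app_iff f _ hpre).1 h1⟩
  rw [hpre]
  exact hV₀.basicOpen _

theorem isLocImmersion_iff_affine_preimage [IsNoetherian X] [IsNoetherian Y] (f : X ⟶ Y) :
    IsLocImmersion f ↔
      ∀ x : X, ∃ V : Y.Opens, f x ∈ V ∧ IsAffineOpen V ∧ IsAffineOpen (f ⁻¹ᵁ V) ∧ IsLocHom (f.app V).hom := by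
  refine ⟨fun hf x => ?_, fun h => ⟨fun x => ?_, fun x x' hxx' => ?_⟩⟩
  · obtain ⟨U, -, h1, h2, h3, h4⟩ := exists_affine_preimage hf x ⊤ trivial
    exact ⟨U, h1, h2, h3, h4⟩
  · obtain ⟨U, h1, h2, h3, h4⟩ := h x
    exact ⟨⟨U, h2⟩, ⟨f ⁻¹ᵁ U, h3⟩, h1, le_rfl, (isLocHom_app_iff f le_rfl rfl).2 h4⟩
  · obtain ⟨U, h1, h2, h3, h4⟩ := h x
    obtain ⟨hpre, -⟩ := isPreimmersion_chart f h2 h3 le_rfl ((isLocHom_app_iff f le_rfl rfl).2 h4)
    have h1' : f x' ∈ U := by rw [← hxx']; exact h1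
    exact congrArg Subtype.val ((f ⁻¹ᵁ U).ι ≫ f |>.isEmbedding.injective
      (a₁ := ⟨x, h1⟩) (a₂ := ⟨x', h1'⟩) (by rw [Scheme.Hom.comp_apply, Scheme.Hom.comp_apply]; exact hxx'))

end Groth.Agent.LocImm10
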