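import Groth.Agent.LocImm10.Affine

/-!
# Base change, ideals, schematically dense images
-/

universe u

set_option linter.style.haveILetI false
set_option backward.isDefEq.respectTransparency false

open CategoryTheory Limits AlgebraicGeometry LocImm

namespace Groth.Agent.LocImm10

variable {X Y Y' : Scheme.{u}}

theorem isLocalizing_pullback_snd {f : X ⟶ Y} (g : Y' ⟶ Y) (hf : IsLocalizing f) :
    IsLocalizing (pullback.snd f g) := by
  refine isLocalizing_of_chart _ fun z => ?_
  obtain ⟨U, V, hx, e, hl⟩ := hf (pullback.fst f g z)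
  haveI : IsAffine U.1.toScheme := U.2
  haveI : IsAffine V.1.toScheme := V.2
  have hz : pullback.snd f g z ∈ g ⁻¹ᵁ U.1 := by
    show g (pullback.snd f g z) ∈ U.1
    rw [← Scheme.Hom.comp_apply, ← pullback.condition, Scheme.Hom.comp_apply]
    exact e hx
  obtain ⟨U', hU', hzU', hle⟩ := exists_isAffineOpen_mem_and_subset hz
  haveI : IsAffine U'.toScheme := hU'
  set a := f.resLE U.1 V.1 e
  set b := g.resLE U.1 U' hle
  haveI : IsAffine (pullback a b) := .of_isPullback (IsPullback.of_hasPullback a b)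
  refine ⟨pullback a b, U', inferInstance, hU', pullback.map a b f g V.1.ι U'.ι U.1.ι
    (Scheme.Hom.resLE_comp_ι f e) (Scheme.Hom.resLE_comp_ι g hle), U'.ι, inferInstance, inferInstance,
    pullback.snd a b, pullback.lift_snd _ _ _, ?_, ?_⟩
  · rw [Scheme.Pullback.range_map]
    exact ⟨⟨⟨_, hx⟩, rfl⟩, ⟨⟨_, hzU'⟩, rfl⟩⟩
  · exact isLocHom_of_isPushout (isPushout_appTop_of_isPullback (IsPullback.of_hasPullback a b))
      (isLocHom_resLE_appTop f e hl)

theorem isLocImmersion_pullback_snd [IsNoetherian X] [IsNoetherian Y] {f : X ⟶ Y} (g : Y' ⟶ Y)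
    (hf : IsLocImmersion f) : IsLocImmersion (pullback.snd f g) := by
  haveI := mono hf
  exact ⟨isLocalizing_pullback_snd g hf.1, (pullback.snd f g).injective⟩

theorem exists_comap_eq [IsNoetherian X] [IsNoetherian Y] {f : X ⟶ Y} (hf : IsLocImmersion f)
    (I : X.IdealSheafData) : ∃ J : Y.IdealSheafData, J.comap f = I := by
  refine ⟨I.map f, le_antisymm (Scheme.IdealSheafData.comap_map_le _ _) ?_⟩
  choose U hU hfU hUa hW hl using fun x => exists_affine_preimage hf x ⊤ trivial
  refine Scheme.IdealSheafData.le_of_iSup_eq_top (fun x : X => ⟨f ⁻¹ᵁ U x, hW x⟩) ?_ fun x => ?_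
  · exact top_le_iff.1 fun z _ => TopologicalSpace.Opens.mem_iSup.2 ⟨z, hfU z⟩
  · letI := (f.app (U x)).hom.toAlgebra
    obtain ⟨M, hM⟩ := hl x
    have h1 : (I.map f).ideal ⟨_, hUa x⟩ ≤ (((I.map f).comap f).map f).ideal ⟨_, hUa x⟩ :=
      Scheme.IdealSheafData.le_map_comap (I.map f) f ⟨U x, hUa x⟩
    rw [Scheme.IdealSheafData.ideal_map I f ⟨_, hUa x⟩ (hW x),
      Scheme.IdealSheafData.ideal_map _ f ⟨_, hUa x⟩ (hW x), ← Ideal.map_le_iff_le_comap] at h1
    refine le_trans (le_of_eq ?_) h1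
    exact (IsLocalization.map_under M Γ(X, f ⁻¹ᵁ U x) (I.ideal ⟨_, hW x⟩)).symm

/-- A schematically dense map which is localizing after composition with a separated map is localizing. -/
theorem isLocalizing_of_comp [IsNoetherian X] [IsNoetherian Y'] (f : X ⟶ Y) (g : Y ⟶ Y')
    (hfg : IsLocImmersion (f ≫ g)) [IsSeparated g]
    (hd : ∀ U : Y.Opens, Function.Injective (f.app U).hom) : IsLocalizing f := by
  refine isLocalizing_of_chart _ fun x => ?_
  obtain ⟨W, -, hxW, hW, hV, hl⟩ := exists_affine_preimage hfg x ⊤ trivial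
  set V := (f ≫ g) ⁻¹ᵁ W
  obtain ⟨U, hU, hxU, hle⟩ := exists_isAffineOpen_mem_and_subset (show f x ∈ g ⁻¹ᵁ W from hxW)
  haveI : IsAffine W.toScheme := hW
  haveI : IsAffine V.toScheme := hV
  haveI : IsAffine U.toScheme := hU
  set a := (f ≫ g).resLE W V le_rfl with ha
  set b := g.resLE W U hle with hb
  haveI : IsAffine (pullback a b) := .of_isPullback (IsPullback.of_hasPullback a b)
  -- the part of `X` over `U` as the pullback of `V` and `U` over `g ⁻¹ W`
  set T := f ⁻¹ᵁ U
  have hTV : T ≤ V := fun z hz => hle hz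
  let c : T.toScheme ⟶ pullback a b := pullback.lift (X.homOfLE hTV) (f.resLE U T le_rfl) (by
    rw [← cancel_mono W.ι, Category.assoc, Category.assoc, ha, hb, Scheme.Hom.resLE_comp_ι,
      Scheme.Hom.resLE_comp_ι, Scheme.homOfLE_ι_assoc, Scheme.Hom.resLE_comp_ι_assoc])
  haveI : IsClosedImmersion c := by
    let p₁ : V.toScheme ⟶ Y := V.ι ≫ f
    have hsq : IsPullback (X.homOfLE hTV) (f.resLE U T le_rfl) p₁ U.ι :=
      (IsOpenImmersion.isPullback (f.resLE U T le_rfl) (X.homOfLE hTV) U.ι p₁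
        (by rw [Scheme.homOfLE_ι_assoc, Scheme.Hom.resLE_comp_ι]) (by
          ext1
          simp only [p₁, Scheme.Opens.opensRange_ι, Scheme.Hom.comp_preimage, Scheme.opensRange_homOfLE]
          rfl)).flip
    let m : pullback a b ⟶ pullback (p₁ ≫ g) (U.ι ≫ g) :=
      pullback.map a b _ _ (𝟙 _) (𝟙 _) W.ι
        (by rw [Category.id_comp, ha, Scheme.Hom.resLE_comp_ι, Category.assoc])
        (by rw [Category.id_comp, hb, Scheme.Hom.resLE_comp_ι])
    have e : c ≫ m = hsq.isoPullback.hom ≫ pullback.mapDesc p₁ U.ι g := by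
      apply pullback.hom_ext <;>
        simp only [c, m, pullback.mapDesc, Category.assoc, pullback.lift_fst, pullback.lift_snd,
          Category.comp_id, IsPullback.isoPullback_hom_fst,
          IsPullback.isoPullback_hom_snd]
    haveI : IsClosedImmersion (c ≫ m) := by rw [e]; infer_instance
    exact IsClosedImmersion.of_comp c m
  refine ⟨T, U, ?_, hU, T.ι, U.ι, inferInstance, inferInstance, f.resLE U T le_rfl,
    (Scheme.Hom.resLE_comp_ι f le_rfl).symm, ⟨⟨x, hxU⟩, rfl⟩, ?_⟩
  · exact isAffine_of_isAffineHom c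
  · have hkey : f.resLE U T le_rfl = c ≫ pullback.snd a b := (pullback.lift_snd _ _ _).symm
    rw [hkey, Scheme.Hom.comp_appTop]
    haveI : IsAffine T.toScheme := isAffine_of_isAffineHom c
    refine isLocHom_of_injective_of_pushout
      (isPushout_appTop_of_isPullback (IsPullback.of_hasPullback a b))
      (isLocHom_resLE_appTop (f ≫ g) le_rfl ((isLocHom_app_iff (f ≫ g) le_rfl rfl).2 hl)) _ ?_ ?_
    · exact (isClosedImmersion_iff_isAffineHom.1 ‹IsClosedImmersion c›).2 ⊤ (isAffineOpen_top _)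
    · rw [← Scheme.Hom.comp_appTop, ← hkey, Scheme.Hom.appTop, Scheme.Hom.resLE_app_top]
      simp only [CommRingCat.hom_comp, RingHom.coe_comp]
      refine (ConcreteCategory.bijective_of_isIso _).1.comp (Function.Injective.comp ?_
        (ConcreteCategory.bijective_of_isIso _).1)
      rw [← Scheme.Hom.app_eq_appLE]
      exact hd U

end Groth.Agent.LocImm10
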