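import Groth.Agent.LocImm10.Ring
import Groth.Agent.S18203
import Mathlib.AlgebraicGeometry.Morphisms.Flat
import Mathlib.AlgebraicGeometry.Morphisms.Preimmersion
import Mathlib.AlgebraicGeometry.Morphisms.Affine
import Mathlib.AlgebraicGeometry.Morphisms.UniversallyInjective
import Mathlib.AlgebraicGeometry.Morphisms.UniversallyOpen

/-!
# Localizing morphisms of schemes
-/

universe u

set_option linter.style.haveILetI false
set_option backward.isDefEq.respectTransparency false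

open CategoryTheory Limits AlgebraicGeometry LocImm

namespace Groth.Agent.LocImm10

variable {X Y Z : Scheme.{u}} (f : X ⟶ Y)

theorem isLocHom_comp_cat {R S T : CommRingCat.{u}} {φ : R ⟶ S} {ψ : S ⟶ T} (hφ : IsLocHom φ.hom)
    (hψ : IsLocHom ψ.hom) : IsLocHom (φ ≫ ψ).hom :=
  isLocHom_comp hφ hψ

theorem isLocHom_res_basicOpen {V : X.Opens} (hV : IsAffineOpen V) (b : Γ(X, V)) :
    IsLocHom (X.presheaf.map (homOfLE (X.basicOpen_le b)).op).hom := by
  letI := (X.presheaf.map (homOfLE (X.basicOpen_le b)).op).hom.toAlgebra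
  haveI : IsLocalization.Away b Γ(X, X.basicOpen b) := hV.isLocalization_basicOpen b
  exact ⟨Submonoid.powers b, inferInstance⟩

/-- Shrinking the source of a chart to a basic open. -/
theorem isLocHom_appLE_source {U : Y.Opens} {V : X.Opens} (hV : IsAffineOpen V) (e : V ≤ f ⁻¹ᵁ U)
    (h : IsLocHom (f.appLE U V e).hom) (b : Γ(X, V)) :
    IsLocHom (f.appLE U (X.basicOpen b) ((X.basicOpen_le b).trans e)).hom := by
  rw [← Scheme.Hom.appLE_map f e (homOfLE (X.basicOpen_le b)).op]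
  exact isLocHom_comp_cat h (isLocHom_res_basicOpen hV b)

/-- Shrinking the target of a chart to a basic open. -/
theorem isLocHom_appLE_target {U : Y.Opens} (hU : IsAffineOpen U) {V : X.Opens} (hV : IsAffineOpen V)
    (e : V ≤ f ⁻¹ᵁ U) (h : IsLocHom (f.appLE U V e).hom) (a : Γ(Y, U)) :
    IsLocHom (f.appLE (Y.basicOpen a) (X.basicOpen (f.appLE U V e a))
      (by simp [Scheme.Hom.appLE])).hom := by
  haveI := hU.isLocalization_basicOpen a
  haveI := hV.isLocalization_basicOpen (f.appLE U V e a)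
  rw [IsAffineOpen.appLE_eq_away_map f hU hV e a, CommRingCat.hom_ofHom]
  refine isLocHom_away h a _ ?_
  rw [IsLocalization.Away.map, IsLocalization.map_comp]

/-- Every point has arbitrarily small localizing charts. -/
theorem exists_chart_within {f : X ⟶ Y} (hf : IsLocalizing f) (x : X) (O : Y.Opens) (hO : f x ∈ O)
    (P : X.Opens) (hP : x ∈ P) :
    ∃ (U : Y.Opens) (V : X.Opens) (e : V ≤ f ⁻¹ᵁ U), IsAffineOpen U ∧ IsAffineOpen V ∧ U ≤ O ∧ V ≤ P ∧ x ∈ V ∧
      IsLocHom (f.appLE U V e).hom := by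
  obtain ⟨U₀, V₀, hx, e₀, h₀⟩ := hf x
  obtain ⟨a, hale, hax⟩ := U₀.2.exists_basicOpen_le ⟨f x, hO⟩ (e₀ hx)
  have h1 := isLocHom_appLE_target f U₀.2 V₀.2 e₀ h₀ a
  set V₁ := X.basicOpen (f.appLE U₀ V₀ e₀ a) with hV₁
  have hV₁a : IsAffineOpen V₁ := V₀.2.basicOpen _
  have hx₁ : x ∈ V₁ := by
    rw [hV₁, Scheme.basicOpen_appLE]
    exact ⟨hx, hax⟩
  obtain ⟨b, hble, hbx⟩ := hV₁a.exists_basicOpen_le ⟨x, hP⟩ hx₁
  exact ⟨_, _, _, U₀.2.basicOpen a, hV₁a.basicOpen b, hale, hble, hbx,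
    isLocHom_appLE_source f hV₁a _ h1 b⟩

theorem isIso_appLE_opensRange [IsOpenImmersion f] :
    IsIso (f.appLE f.opensRange ⊤ (by rw [Scheme.Hom.preimage_opensRange])) := by
  haveI := f.isIso_app f.opensRange le_rfl
  rw [Scheme.Hom.appLE]
  haveI : IsIso (X.presheaf.map (homOfLE (show (⊤ : X.Opens) ≤ f ⁻¹ᵁ f.opensRange by
      rw [Scheme.Hom.preimage_opensRange])).op) := by
    rw [show (homOfLE (show (⊤ : X.Opens) ≤ f ⁻¹ᵁ f.opensRange by
      rw [Scheme.Hom.preimage_opensRange])).op = eqToHom (by rw [Scheme.Hom.preimage_opensRange]) from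
      Subsingleton.elim _ _]
    infer_instance
  infer_instance

/-- A morphism with localizing charts is localizing. -/
theorem isLocalizing_of_chart
    (h : ∀ x : X, ∃ (A B : Scheme.{u}) (_ : IsAffine A) (_ : IsAffine B) (i : A ⟶ X) (j : B ⟶ Y)
      (_ : IsOpenImmersion i) (_ : IsOpenImmersion j) (k : A ⟶ B),
      i ≫ f = k ≫ j ∧ x ∈ Set.range i ∧ IsLocHom k.appTop.hom) : IsLocalizing f := by
  intro x
  obtain ⟨A, B, hA, hB, i, j, hi, hj, k, hw, hx, hk⟩ := h x
  have hle : i.opensRange ≤ f ⁻¹ᵁ j.opensRange := by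
    rintro _ ⟨a, rfl⟩
    exact ⟨k a, by rw [← Scheme.Hom.comp_apply, ← Scheme.Hom.comp_apply, hw]⟩
  refine ⟨⟨_, isAffineOpen_opensRange j⟩, ⟨_, isAffineOpen_opensRange i⟩, hx, hle, ?_⟩
  haveI := isIso_appLE_opensRange i
  haveI := isIso_appLE_opensRange j
  refine (arrow_iso_iff (Arrow.isoMk (f := Arrow.mk (f.appLE j.opensRange i.opensRange hle))
    (g := Arrow.mk k.appTop) (asIso (j.appLE j.opensRange ⊤ _))
    (asIso (i.appLE i.opensRange ⊤ _)) ?_)).2 hk
  show j.appLE j.opensRange ⊤ _ ≫ k.app ⊤ = f.appLE _ _ hle ≫ i.appLE i.opensRange ⊤ _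
  rw [Scheme.Hom.app_eq_appLE, Scheme.Hom.appLE_comp_appLE, Scheme.Hom.appLE_comp_appLE]
  simp only [hw, Scheme.Hom.preimage_top]

/-- The chart as a morphism of affine schemes. -/
theorem isLocHom_resLE_appTop {U : Y.Opens} {V : X.Opens} (e : V ≤ f ⁻¹ᵁ U)
    (h : IsLocHom (f.appLE U V e).hom) : IsLocHom (f.resLE U V e).appTop.hom := by
  rw [Scheme.Hom.appTop, Scheme.Hom.resLE_app_top]
  exact isLocHom_comp_cat (respectsIso.1 (RingHom.id _) U.topIso.commRingCatIsoToRingEquiv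
      (isLocHom_ringEquiv (RingEquiv.refl _)))
    (isLocHom_comp_cat h (isLocHom_ringEquiv V.topIso.symm.commRingCatIsoToRingEquiv))

/-- A morphism of affine schemes with localizing ring map is a flat preimmersion. -/
theorem preimmersion_flat_of_isLocHom {A B : Scheme.{u}} [IsAffine A] [IsAffine B] (k : A ⟶ B)
    (hk : IsLocHom k.appTop.hom) : IsPreimmersion k ∧ Flat k := by
  letI := k.appTop.hom.toAlgebra
  obtain ⟨M, hM⟩ := hk
  have h1 : IsPreimmersion (Spec.map k.appTop) :=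
    IsPreimmersion.of_isLocalization (R := Γ(B, ⊤)) (S := Γ(A, ⊤)) M
  have h2 : Flat (Spec.map k.appTop) :=
    (HasRingHomProperty.Spec_iff (P := @Flat)).2 (IsLocalization.flat (Γ(A, ⊤)) M)
  have e : k = A.isoSpec.hom ≫ Spec.map k.appTop ≫ B.isoSpec.inv := by
    rw [Scheme.isoSpec_inv_naturality, Iso.hom_inv_id_assoc]
  rw [e]
  exact ⟨inferInstance, inferInstance⟩

theorem isPreimmersion_chart {U : Y.Opens} (hU : IsAffineOpen U) {V : X.Opens} (hV : IsAffineOpen V)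
    (e : V ≤ f ⁻¹ᵁ U) (h : IsLocHom (f.appLE U V e).hom) : IsPreimmersion (V.ι ≫ f) ∧ Flat (V.ι ≫ f) := by
  haveI : IsAffine U.toScheme := hU
  haveI : IsAffine V.toScheme := hV
  obtain ⟨h1, h2⟩ := preimmersion_flat_of_isLocHom _ (isLocHom_resLE_appTop f e h)
  rw [← Scheme.Hom.resLE_comp_ι f e]
  exact ⟨inferInstance, inferInstance⟩

variable {f}

theorem isIso_stalkMap (hf : IsLocalizing f) (x : X) : IsIso (f.stalkMap x) := by
  obtain ⟨U, V, hx, e, h⟩ := hf x
  obtain ⟨h1, h2⟩ := isPreimmersion_chart f U.2 V.2 e h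
  have h0 := Groth.Agent.H23.RatExtend.isIso_stalkMap (V.1.ι ≫ f) ⟨x, hx⟩
  rw [Scheme.Hom.stalkMap_comp] at h0
  haveI := h0
  exact @IsIso.of_isIso_comp_right _ _ _ _ _ (f.stalkMap (V.1.ι ⟨x, hx⟩)) (V.1.ι.stalkMap ⟨x, hx⟩) inferInstance h0

theorem flat (hf : IsLocalizing f) : Flat f :=
  Flat.of_stalkMap f fun x => RingHom.Flat.of_bijective
    (@ConcreteCategory.bijective_of_isIso _ _ _ _ _ _ _ _ (f.stalkMap x) (isIso_stalkMap hf x))

theorem exists_specializes_lift (hf : IsLocalizing f) {x : X} {y : Y} (hy : y ⤳ f x) :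
    ∃ x', x' ⤳ x ∧ f x' = y := by
  haveI := flat hf
  exact Flat.generalizingMap f hy

theorem isPreimmersion [IsNoetherian X] [IsNoetherian Y] (hf : IsLocImmersion f) : IsPreimmersion f where
  stalkMap_surjective x :=
    (@ConcreteCategory.bijective_of_isIso _ _ _ _ _ _ _ _ (f.stalkMap x) (isIso_stalkMap hf.1 x)).2
  isEmbedding := (Groth.Agent.S18203.result f hf).1

theorem mono [IsNoetherian X] [IsNoetherian Y] (hf : IsLocImmersion f) : Mono f :=
  haveI := isPreimmersion hf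
  inferInstance

theorem isLocImmersion_iff_mono [IsNoetherian X] [IsNoetherian Y] :
    IsLocImmersion f ↔ IsLocalizing f ∧ Mono f :=
  ⟨fun h => ⟨h.1, mono h⟩, fun ⟨h, _⟩ => ⟨h, f.injective⟩⟩

/-- Restriction to an open subscheme. -/
theorem isLocalizing_restrict (hf : IsLocalizing f) (P : X.Opens) : IsLocalizing (P.ι ≫ f) := by
  refine isLocalizing_of_chart _ fun x => ?_
  obtain ⟨U, V, e, hU, hV, -, hVP, hx, h⟩ := exists_chart_within hf x.1 ⊤ trivial P x.2
  refine ⟨V, U, hV, hU, X.homOfLE hVP, U.ι, inferInstance, inferInstance, f.resLE U V e, ?_, ?_,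
    isLocHom_resLE_appTop f e h⟩
  · rw [Scheme.homOfLE_ι_assoc, Scheme.Hom.resLE_comp_ι]
  · exact ⟨⟨x.1, hx⟩, Subtype.ext (by simp [Scheme.homOfLE_apply'])⟩

/-- Factorization through an open immersion. -/
theorem isLocalizing_of_comp_openImmersion {W : Scheme.{u}} {k : X ⟶ W} {ι : W ⟶ Y} [IsOpenImmersion ι]
    (h : IsLocalizing (k ≫ ι)) : IsLocalizing k := by
  refine isLocalizing_of_chart _ fun x => ?_
  obtain ⟨U, V, e, hU, hV, hUW, -, hx, hl⟩ :=
    exists_chart_within h x ι.opensRange ⟨k x, rfl⟩ ⊤ trivial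
  have hr : Set.range U.ι ⊆ Set.range ι := by
    rw [Scheme.Opens.range_ι]; exact hUW
  refine ⟨V, U, hV, hU, V.ι, IsOpenImmersion.lift ι U.ι hr, inferInstance, ?_, (k ≫ ι).resLE U V e, ?_,
    ⟨⟨x, hx⟩, rfl⟩, isLocHom_resLE_appTop _ e hl⟩
  · haveI : IsOpenImmersion (IsOpenImmersion.lift ι U.ι hr ≫ ι) := by
      rw [IsOpenImmersion.lift_fac]; infer_instance
    exact IsOpenImmersion.of_comp _ ι
  · rw [← cancel_mono ι, Category.assoc, Category.assoc, IsOpenImmersion.lift_fac, Scheme.Hom.resLE_comp_ι]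

/-- An open immersion is localizing. -/
theorem isLocalizing_of_isOpenImmersion (i : X ⟶ Y) [IsOpenImmersion i] : IsLocalizing i := by
  refine isLocalizing_of_chart _ fun x => ?_
  obtain ⟨V, hV, hx, -⟩ := exists_isAffineOpen_mem_and_subset (show x ∈ (⊤ : X.Opens) from trivial)
  exact ⟨V, V, hV, hV, V.ι, V.ι ≫ i, inferInstance, inferInstance, 𝟙 _, (Category.id_comp _).symm,
    ⟨⟨x, hx⟩, rfl⟩, by rw [Scheme.Hom.id_appTop, CommRingCat.hom_id]; exact isLocHom_ringEquiv (RingEquiv.refl _)⟩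

end Groth.Agent.LocImm10
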