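import Groth.Agent.LocImm10.Locus
import Mathlib.AlgebraicGeometry.Morphisms.Proper

/-!
# Universally closed separated morphisms essentially of finite type are of finite type
-/

universe u

set_option linter.style.haveILetI false
set_option backward.isDefEq.respectTransparency false

open CategoryTheory Limits AlgebraicGeometry LocImm

namespace Groth.Agent.LocImm10

/-- An affine chart of an essentially finite type morphism factors through a scheme of finite type over the base. -/
theorem exists_chart_factor {X S : Scheme.{u}} [IsNoetherian S] (f : X ⟶ S) [EssFT.LocallyEssFiniteType f]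
    (x : X) :
    ∃ (V : X.Opens) (T : Scheme.{u}) (k : V.toScheme ⟶ T) (p : T ⟶ S), x ∈ V ∧ IsAffineOpen V ∧
      IsNoetherian T ∧ IsSeparated p ∧ LocallyOfFiniteType p ∧ IsLocImmersion k ∧ k ≫ p = V.ι ≫ f := by
  obtain ⟨U, V, hxV, e, hft⟩ := EssFT.LocallyEssFiniteType.exists_appLE_essFiniteType (f := f) x
  letI := (f.appLE U.1 V.1 e).hom.toAlgebra
  haveI : Algebra.EssFiniteType Γ(S, U.1) Γ(X, V.1) := hft
  haveI : IsAffine V.1.toScheme := V.2
  haveI : IsNoetherianRing Γ(S, U.1) := IsLocallyNoetherian.component_noetherian U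
  let D := Algebra.EssFiniteType.subalgebra Γ(S, U.1) Γ(X, V.1)
  haveI : IsNoetherianRing D := Algebra.FiniteType.isNoetherianRing Γ(S, U.1) D
  let ψ : CommRingCat.of D ⟶ Γ(X, V.1) := CommRingCat.ofHom (algebraMap D Γ(X, V.1))
  let ι₀ : Γ(S, U.1) ⟶ CommRingCat.of D := CommRingCat.ofHom (algebraMap Γ(S, U.1) D)
  have hι : ι₀ ≫ ψ = f.appLE U.1 V.1 e := by
    ext a
    exact (IsScalarTower.algebraMap_apply Γ(S, U.1) D Γ(X, V.1) a).symm
  have hψ : IsLocHom ψ.hom := isLocHom_algebraMap (Algebra.EssFiniteType.submonoid Γ(S, U.1) Γ(X, V.1))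
  let k₀ : Spec Γ(X, V.1) ⟶ Spec (CommRingCat.of D) := Spec.map ψ
  haveI : IsPreimmersion k₀ :=
    IsPreimmersion.of_isLocalization (R := D) (S := Γ(X, V.1)) (Algebra.EssFiniteType.submonoid Γ(S, U.1) Γ(X, V.1))
  haveI : LocallyOfFiniteType (Spec.map ι₀) :=
    (HasRingHomProperty.Spec_iff (P := @LocallyOfFiniteType)).2 (RingHom.finiteType_algebraMap.2 inferInstance)
  haveI : IsSeparated (U.2.fromSpec) := inferInstance
  refine ⟨V.1, Spec (CommRingCat.of D), V.2.isoSpec.hom ≫ k₀, Spec.map ι₀ ≫ U.2.fromSpec, hxV, V.2,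
    inferInstance, inferInstance, inferInstance, ⟨?_, ?_⟩, ?_⟩
  · refine isLocalizing_of_chart _ fun z => ⟨Spec Γ(X, V.1), _, inferInstance, inferInstance, V.2.isoSpec.inv,
      𝟙 _, inferInstance, inferInstance, k₀, ?_, ⟨V.2.isoSpec.hom z, ?_⟩, ?_⟩
    · rw [Iso.inv_hom_id_assoc, Category.comp_id]
    · rw [← Scheme.Hom.comp_apply, Iso.hom_inv_id]; rfl
    · exact (arrow_iso_iff (arrowIsoΓSpecOfIsAffine ψ)).1 hψ
  · exact (V.2.isoSpec.hom ≫ k₀).isEmbedding.injective
  · rw [Category.assoc, ← Spec.map_comp_assoc, hι, U.2.SpecMap_appLE_fromSpec f V.2 e,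
      IsAffineOpen.isoSpec_hom, IsAffineOpen.toSpecΓ_fromSpec_assoc]

/-- The part of a finite type model covered by an open piece of a universally closed morphism is open. -/
theorem isOpen_range_of_universallyClosed {X S T : Scheme.{u}} [IsNoetherian X] [IsNoetherian T] (f : X ⟶ S)
    [IsSeparated f] [UniversallyClosed f] (V : X.Opens) (k : V.toScheme ⟶ T) (p : T ⟶ S) [IsSeparated p]
    (hw : k ≫ p = V.ι ≫ f) (hk : IsLocImmersion k) : IsOpen (Set.range k) := by
  haveI := isNoetherian_open V
  let γ : V.toScheme ⟶ pullback f p := pullback.lift V.ι k hw.symm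
  have hfst : γ ≫ pullback.fst f p = V.ι := pullback.lift_fst _ _ _
  have hsnd : γ ≫ pullback.snd f p = k := pullback.lift_snd _ _ _
  have hgamma : ∀ z ∈ closure (Set.range γ), ∃ w ∈ Set.range γ, w ⤳ z := fun z hz => by
    rw [← Set.image_univ, ← sUnion_irreducibleComponents, Set.sUnion_eq_biUnion, Set.image_iUnion₂,
      TopologicalSpace.NoetherianSpace.finite_irreducibleComponents.closure_biUnion] at hz
    obtain ⟨C, hC, hzC⟩ := Set.mem_iUnion₂.1 hz
    have hgp := hC.1.isGenericPoint_genericPoint (isClosed_of_mem_irreducibleComponents C hC)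
    refine ⟨γ hC.1.genericPoint, ⟨_, rfl⟩, specializes_iff_mem_closure.2 (closure_minimal ?_ isClosed_closure hzC)⟩
    rintro _ ⟨c, hc, rfl⟩
    exact ((hgp.specializes hc).map γ.continuous).mem_closed isClosed_closure (subset_closure rfl)
  set Z := closure (Set.range γ) with hZ
  have himage : (pullback.snd f p) '' Z = closure (Set.range k) := by
    rw [hZ, ← (pullback.snd f p).isClosedMap.closure_image_eq_of_continuous (pullback.snd f p).continuous, ← Set.range_comp]
    congr 2
    funext v
    exact congrArg (fun m : V.toScheme ⟶ T => m v) hsnd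
  have key : ∀ z ∈ Z, pullback.snd f p z ∈ Set.range k → z ∈ Set.range γ := by
    intro z hz hkz
    obtain ⟨v, hv⟩ := hkz
    obtain ⟨w, hw', hwz⟩ : ∃ w ∈ Set.range γ, w ⤳ z := hgamma z hz
    obtain ⟨v₀, rfl⟩ := hw'
    obtain ⟨s, hs, -, -⟩ := exists_section hk.1 v (y := pullback.snd f p z) hv
    let t := pullback.snd f p z
    let l := T.fromSpecStalk t
    let P' := pullback f (l ≫ p)
    let σ : Spec (T.presheaf.stalk t) ⟶ P' := pullback.lift (s ≫ V.ι) (𝟙 _) (by
      rw [Category.id_comp, Category.assoc, ← hw, ← Category.assoc, hs])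
    haveI : IsClosedImmersion σ := by
      haveI : IsClosedImmersion (σ ≫ pullback.snd f (l ≫ p)) := by
        rw [pullback.lift_snd]; infer_instance
      exact IsClosedImmersion.of_comp σ (pullback.snd f (l ≫ p))
    let j : P' ⟶ pullback f p := pullback.map f (l ≫ p) f p (𝟙 _) l (𝟙 _) (by simp) (by simp)
    have hσj : σ ≫ j = s ≫ γ := by
      apply pullback.hom_ext
      · simp [σ, j, γ]
      · simp only [σ, j, γ, Category.assoc, pullback.lift_snd, pullback.lift_snd_assoc, hs]
        exact Category.id_comp _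
    have hsq : IsPullback j (pullback.snd f (l ≫ p)) (pullback.snd f p) l := by
      refine IsPullback.of_right ?_ (pullback.lift_snd _ _ _) (IsPullback.of_hasPullback f p)
      rw [show j ≫ pullback.fst f p = pullback.fst f (l ≫ p) by simp [j]]
      exact IsPullback.of_hasPullback f (l ≫ p)
    haveI : IsPreimmersion j := MorphismProperty.of_isPullback hsq.flip (inferInstance : IsPreimmersion l)
    have hrange : Set.range j = (pullback.snd f p) ⁻¹' Set.range l := by
      rw [← hsq.isoPullback_hom_fst, Scheme.Hom.comp_base, TopCat.coe_comp,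
        (show Function.Surjective hsq.isoPullback.hom from hsq.isoPullback.hom.homeomorph.surjective).range_comp,
        Scheme.Pullback.range_fst]
    have hmem : ∀ {a : (pullback f p : Scheme.{u})}, pullback.snd f p a ⤳ t → a ∈ Set.range j := fun {a} ha => by
      rw [hrange, Set.mem_preimage, Scheme.range_fromSpecStalk]
      exact ha
    obtain ⟨z', hz'⟩ := hmem (a := z) specializes_rfl
    have h0 : k v₀ ⤳ t := by
      have := hwz.map (pullback.snd f p).continuous
      rwa [← Scheme.Hom.comp_apply, hsnd] at this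
    have h1 : k v₀ ∈ Set.range l := by rw [Scheme.range_fromSpecStalk]; exact h0
    obtain ⟨q₀, hq₀⟩ := h1
    have hsq₀ : s q₀ = v₀ := hk.2 (by
      show k (s q₀) = k v₀
      rw [← Scheme.Hom.comp_apply, hs]
      exact hq₀)
    have hspec : σ q₀ ⤳ z' := by
      refine j.isEmbedding.isInducing.specializes_iff.1 ?_
      rw [← Scheme.Hom.comp_apply, hσj, Scheme.Hom.comp_apply, hsq₀, hz']
      exact hwz
    obtain ⟨q, rfl⟩ := hspec.mem_closed σ.isClosedEmbedding.isClosed_range ⟨q₀, rfl⟩
    exact ⟨s q, (congrArg (fun m => m q) hσj).symm.trans hz'⟩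
  have hopen : ∀ z ∈ Z, z ∈ Set.range γ ↔ pullback.fst f p z ∈ V := by
    intro z hz
    refine ⟨?_, fun hzV => ?_⟩
    · rintro ⟨v, rfl⟩
      rw [← Scheme.Hom.comp_apply, hfst]
      exact v.2
    · let W := pullback.fst f p ⁻¹ᵁ V
      let q : W.toScheme ⟶ V.toScheme := IsOpenImmersion.lift V.ι (W.ι ≫ pullback.fst f p) (by
        rintro _ ⟨w, rfl⟩
        rw [Scheme.Opens.range_ι, Scheme.Hom.comp_apply]
        exact w.2)
      have hγW : Set.range γ ⊆ Set.range W.ι := by
        rintro _ ⟨v, rfl⟩
        rw [Scheme.Opens.range_ι]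
        show pullback.fst f p (γ v) ∈ V
        rw [← Scheme.Hom.comp_apply, hfst]
        exact v.2
      let γ' := IsOpenImmersion.lift W.ι γ hγW
      have hsec : γ' ≫ q = 𝟙 _ := by
        rw [← cancel_mono V.ι, Category.assoc, IsOpenImmersion.lift_fac, IsOpenImmersion.lift_fac_assoc, hfst,
          Category.id_comp]
      haveI : IsSeparated q := by
        haveI : IsSeparated (q ≫ V.ι) := by rw [IsOpenImmersion.lift_fac]; infer_instance
        exact IsSeparated.of_comp q V.ι
      haveI : IsClosedImmersion γ' := by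
        haveI : IsClosedImmersion (γ' ≫ q) := by rw [hsec]; infer_instance
        exact IsClosedImmersion.of_comp γ' q
      have hz' : (⟨z, hzV⟩ : W.toScheme) ∈ closure (Set.range γ') := by
        rw [W.ι.isEmbedding.closure_eq_preimage_closure_image, Set.mem_preimage, ← Set.range_comp]
        convert hz using 3
        rotate_left
        · rfl
        funext v
        exact congrArg (fun m : V.toScheme ⟶ pullback f p => m v) (IsOpenImmersion.lift_fac W.ι γ hγW)
      rw [γ'.isClosedEmbedding.isClosed_range.closure_eq] at hz'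
      obtain ⟨v, hv⟩ := hz'
      exact ⟨v, by
        rw [← IsOpenImmersion.lift_fac W.ι γ hγW, Scheme.Hom.comp_apply]
        exact congrArg W.ι.base hv⟩
  have hcompl : (Set.range k)ᶜ ∩ closure (Set.range k) =
      pullback.snd f p '' (Z ∩ (pullback.fst f p ⁻¹' (V : Set X))ᶜ) := by
    ext t
    constructor
    · rintro ⟨ht, htc⟩
      rw [← himage] at htc
      obtain ⟨z, hz, rfl⟩ := htc
      refine ⟨z, ⟨hz, fun hzV => ht ?_⟩, rfl⟩
      obtain ⟨v, rfl⟩ := (hopen z hz).2 hzV
      exact ⟨v, congrArg (fun m : V.toScheme ⟶ T => m v) hsnd.symm⟩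
    · rintro ⟨z, ⟨hz, hzV⟩, rfl⟩
      exact ⟨fun hk' => hzV ((hopen z hz).1 (key z hz hk')), himage ▸ ⟨z, hz, rfl⟩⟩
  have hgen := (Groth.Agent.S18203.result k hk).2.1
  have hclosure : IsOpen (Set.range k ∪ (closure (Set.range k))ᶜ) := by
    rw [← isClosed_compl_iff, Set.compl_union, compl_compl, hcompl]
    exact (pullback.snd f p).isClosedMap _ (isClosed_closure.inter
      (V.2.preimage (pullback.fst f p).continuous).isClosed_compl)
  -- points near the image lie in its closure because the image is stable under generalization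
  let Bad : Set T := ⋃ C ∈ {C ∈ irreducibleComponents T | Disjoint C (Set.range k)}, C
  have hBad : IsClosed Bad :=
    ((TopologicalSpace.NoetherianSpace.finite_irreducibleComponents).subset fun C hC => hC.1).isClosed_biUnion
      fun C hC => isClosed_of_mem_irreducibleComponents C hC.1
  have heq : Set.range k = (Set.range k ∪ (closure (Set.range k))ᶜ) ∩ Badᶜ := by
    ext t
    refine ⟨fun ht => ⟨Or.inl ht, fun hb => ?_⟩, fun ⟨ht, hb⟩ => ht.resolve_right fun htc => hb ?_⟩
    · obtain ⟨C, hC, htC⟩ := Set.mem_iUnion₂.1 hb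
      exact Set.disjoint_left.1 hC.2 htC ht
    · refine Set.mem_iUnion₂.2 ⟨irreducibleComponent t,
        ⟨irreducibleComponent_mem_irreducibleComponents t, Set.disjoint_left.2 fun c hc hck => htc ?_⟩,
        mem_irreducibleComponent⟩
      have hgp := (isIrreducible_irreducibleComponent (x := t)).isGenericPoint_genericPoint isClosed_irreducibleComponent
      exact (hgp.specializes mem_irreducibleComponent).mem_closed isClosed_closure
        (subset_closure (hgen (hgp.specializes hc) hck))
  rw [heq]
  exact hclosure.inter hBad.isOpen_compl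

theorem locallyOfFiniteType_of_universallyClosed {X S : Scheme.{u}} [IsNoetherian X] [IsNoetherian S] (f : X ⟶ S)
    [IsSeparated f] [EssFT.LocallyEssFiniteType f] [UniversallyClosed f] : LocallyOfFiniteType f := by
  choose V T k p hx hV hT hp hpft hk hw using exists_chart_factor f
  have hcov : ⨆ x, V x = ⊤ := top_le_iff.1 fun z _ => TopologicalSpace.Opens.mem_iSup.2 ⟨z, hx z⟩
  refine @IsZariskiLocalAtSource.of_iSup_eq_top @LocallyOfFiniteType inferInstance X S f X V hcov fun x => ?_
  haveI := hT x; haveI := hp x; haveI := hpft x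
  haveI := isNoetherian_open (V x)
  obtain ⟨hemb, -, hiso⟩ := Groth.Agent.S18203.result (k x) (hk x)
  haveI : IsOpenImmersion (k x) := @IsOpenImmersion.of_isIso_stalkMap _ _ (k x)
    ⟨hemb, isOpen_range_of_universallyClosed f (V x) (k x) (p x) (hw x) (hk x)⟩ hiso
  rw [← hw x]
  infer_instance

end Groth.Agent.LocImm10
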