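import Groth.Agent.LocImm10.Glue
import Groth.Agent.LocImm10.Graph

/-!
# Factorization of separated essentially finite type morphisms
-/

universe u

set_option linter.style.haveILetI false
set_option backward.isDefEq.respectTransparency false

open CategoryTheory Limits AlgebraicGeometry LocImm TopologicalSpace

namespace Groth.Agent.LocImm10

/-- A morphism with a separated finite type model on an open. -/
def HasModel {X S : Scheme.{u}} (f : X ⟶ S) (U : X.Opens) : Prop :=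
  ∃ (Y : Scheme.{u}) (k : U.toScheme ⟶ Y) (p : Y ⟶ S), IsNoetherian Y ∧ IsLocImmersion k ∧ IsSeparated p ∧
    LocallyOfFiniteType p ∧ k ≫ p = U.ι ≫ f

theorem hasModel_sup {X S : Scheme.{u}} [IsNoetherian X] [IsNoetherian S] (f : X ⟶ S) [IsSeparated f]
    {U V : X.Opens} (hU : HasModel f U) (hV : HasModel f V) : HasModel f (U ⊔ V) := by
  obtain ⟨Y₁, k₁, p₁, _, hk₁, _, _, h₁⟩ := hU
  obtain ⟨Y₂, k₂, p₂, _, hk₂, _, _, h₂⟩ := hV
  haveI := isNoetherian_open (U ⊔ V)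
  let U' := (U ⊔ V).ι ⁻¹ᵁ U
  let V' := (U ⊔ V).ι ⁻¹ᵁ V
  let i : U'.toScheme ⟶ U.toScheme := IsOpenImmersion.lift U.ι (U'.ι ≫ (U ⊔ V).ι) (by
    rw [Scheme.Opens.range_ι]; rintro _ ⟨w, rfl⟩; exact w.2)
  let j : V'.toScheme ⟶ V.toScheme := IsOpenImmersion.lift V.ι (V'.ι ≫ (U ⊔ V).ι) (by
    rw [Scheme.Opens.range_ι]; rintro _ ⟨w, rfl⟩; exact w.2)
  have hi : i ≫ U.ι = U'.ι ≫ (U ⊔ V).ι := IsOpenImmersion.lift_fac _ _ _
  have hj : j ≫ V.ι = V'.ι ≫ (U ⊔ V).ι := IsOpenImmersion.lift_fac _ _ _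
  haveI : IsOpenImmersion i := by
    haveI : IsOpenImmersion (i ≫ U.ι) := by rw [hi]; infer_instance
    exact IsOpenImmersion.of_comp i U.ι
  haveI : IsOpenImmersion j := by
    haveI : IsOpenImmersion (j ≫ V.ι) := by rw [hj]; infer_instance
    exact IsOpenImmersion.of_comp j V.ι
  have htop : U' ⊔ V' = ⊤ := top_le_iff.1 fun x _ => x.2
  obtain ⟨Y, k, p, h1, h2, h3, h4, h5⟩ := exists_factorization_union ((U ⊔ V).ι ≫ f) U' V' htop Y₁ Y₂
    (i ≫ k₁) (j ≫ k₂) p₁ p₂ (isLocImmersion_homOfLE_comp hk₁ i) (isLocImmersion_homOfLE_comp hk₂ j)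
    (by rw [Category.assoc, h₁, reassoc_of% hi]) (by rw [Category.assoc, h₂, reassoc_of% hj])
  exact ⟨Y, k, p, h1, h2, h3, h4, h5⟩

theorem hasModel_bot {X S : Scheme.{u}} [IsNoetherian X] (f : X ⟶ S) : HasModel f (⊥ : X.Opens) := by
  haveI : IsEmpty (⊥ : X.Opens).toScheme := ⟨fun x => x.2⟩
  exact ⟨_, 𝟙 _, (⊥ : X.Opens).ι ≫ f, isNoetherian_open ⊥,
    ⟨isLocalizing_of_isOpenImmersion _, fun a => isEmptyElim a⟩, inferInstance, inferInstance, Category.id_comp _⟩

theorem hasModel_top {X S : Scheme.{u}} [IsNoetherian X] [IsNoetherian S] (f : X ⟶ S) [IsSeparated f]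
    [EssFT.LocallyEssFiniteType f] : HasModel f ⊤ := by
  choose V T k p hx hV hT hp hpft hk hw using exists_chart_factor f
  have hmodel : ∀ x, HasModel f (V x) := fun x => ⟨T x, k x, p x, hT x, hk x, hp x, hpft x, hw x⟩
  obtain ⟨t, ht⟩ := isCompact_univ.elim_finite_subcover (fun x => (V x : Set X)) (fun x => (V x).2)
    (fun z _ => Set.mem_iUnion.2 ⟨z, hx z⟩)
  have hall : HasModel f (t.sup V) :=
    Finset.sup_induction (p := HasModel f) (hasModel_bot f) (fun a ha b hb => hasModel_sup f ha hb)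
      (fun x _ => hmodel x)
  have htop : t.sup V = ⊤ := top_le_iff.1 fun z hz => by
    obtain ⟨x, hxt, hzx⟩ := Set.mem_iUnion₂.1 (ht hz)
    exact Finset.le_sup (f := V) hxt hzx
  rwa [htop] at hall

/-- Factorization as a localizing immersion and a separated morphism of finite type. -/
theorem exists_factorization {X S : Scheme.{u}} [IsNoetherian X] [IsNoetherian S] (f : X ⟶ S) [IsSeparated f]
    [EssFT.LocallyEssFiniteType f] :
    ∃ (Y : Scheme.{u}) (k : X ⟶ Y) (p : Y ⟶ S), IsNoetherian Y ∧ IsLocImmersion k ∧ IsSeparated p ∧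
      LocallyOfFiniteType p ∧ QuasiCompact p ∧ k ≫ p = f := by
  obtain ⟨Y, k, p, hY, hk, hp, hp', h⟩ := hasModel_top f
  exact ⟨Y, X.topIso.inv ≫ k, p, hY, isLocImmersion_homOfLE_comp hk X.topIso.inv, hp, hp', inferInstance, by
    rw [Category.assoc, h]; simp⟩

end Groth.Agent.LocImm10
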