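import Groth.Agent.LocImm10.GlueKey
import Groth.Agent.ConsPropLib.Union
import Mathlib.AlgebraicGeometry.Morphisms.Separated

/-!
# Gluing finite type models of two open pieces
-/

universe u

set_option linter.style.haveILetI false
set_option backward.isDefEq.respectTransparency false

open CategoryTheory Limits AlgebraicGeometry LocImm TopologicalSpace Topology

namespace Groth.Agent.LocImm10

/-- A union of two separated schemes along an open with closed graph is separated. -/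
theorem isSeparated_union {W A B P S : Scheme.{u}} {a : W ⟶ A} {b : W ⟶ B} {iA : A ⟶ P} {iB : B ⟶ P}
    [IsOpenImmersion iA] [IsOpenImmersion iB] (p : P ⟶ S) [IsSeparated (iA ≫ p)] [IsSeparated (iB ≫ p)]
    (hw : a ≫ iA = b ≫ iB) (hcov : ∀ t : P, (∃ x, iA x = t) ∨ ∃ y, iB y = t)
    (hint : ∀ x y, iA x = iB y → ∃ z, a z = x ∧ b z = y)
    (γ : W ⟶ pullback (iA ≫ p) (iB ≫ p)) (hγ₁ : γ ≫ pullback.fst _ _ = a) (hγ₂ : γ ≫ pullback.snd _ _ = b)
    (hγ : IsClosed (Set.range γ)) : IsSeparated p := by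
  constructor
  refine @IsClosedImmersion.of_isPreimmersion _ _ _ inferInstance ?_
  refine isClosed_of_closure_subset fun z hz => ?_
  -- one of the four products of the two pieces
  have piece : ∀ {A₁ B₁ : Scheme.{u}} (i : A₁ ⟶ P) (j : B₁ ⟶ P) [IsOpenImmersion i] [IsOpenImmersion j]
      {T : Scheme.{u}} (δ : T ⟶ pullback (i ≫ p) (j ≫ p)) (τ : T ⟶ P)
      (_ : δ ≫ pullback.fst _ _ ≫ i = τ) (_ : δ ≫ pullback.snd _ _ ≫ j = τ) (_ : IsClosed (Set.range δ))
      (_ : ∀ x y, i x = j y → i x ∈ Set.range τ)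
      (_ : pullback.fst p p z ∈ Set.range i) (_ : pullback.snd p p z ∈ Set.range j),
      z ∈ Set.range (pullback.diagonal p) := by
    intro A₁ B₁ i j _ _ T δ τ h₁ h₂ hδ hij hzi hzj
    let m : pullback (i ≫ p) (j ≫ p) ⟶ pullback p p := pullback.map _ _ _ _ i j (𝟙 _) (by simp) (by simp)
    have hm : δ ≫ m = τ ≫ pullback.diagonal p := by
      apply pullback.hom_ext
      · simp [m, h₁]
      · simp [m, h₂]
    have hzm : z ∈ Set.range m := by
      rw [Scheme.Pullback.range_map]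
      exact ⟨hzi, hzj⟩
    obtain ⟨z', rfl⟩ := hzm
    have hsub : m ⁻¹' Set.range (pullback.diagonal p) ⊆ Set.range δ := by
      rintro w ⟨t, ht⟩
      have e₁ : i (pullback.fst (i ≫ p) (j ≫ p) w) = t := by
        rw [← Scheme.Hom.comp_apply, show pullback.fst (i ≫ p) (j ≫ p) ≫ i = m ≫ pullback.fst p p by simp [m],
          Scheme.Hom.comp_apply, ← ht, ← Scheme.Hom.comp_apply, pullback.diagonal_fst]
        rfl
      have e₂ : j (pullback.snd (i ≫ p) (j ≫ p) w) = t := by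
        rw [← Scheme.Hom.comp_apply, show pullback.snd (i ≫ p) (j ≫ p) ≫ j = m ≫ pullback.snd p p by simp [m],
          Scheme.Hom.comp_apply, ← ht, ← Scheme.Hom.comp_apply, pullback.diagonal_snd]
        rfl
      obtain ⟨s, hs⟩ : t ∈ Set.range τ := e₁ ▸ hij _ _ (e₁.trans e₂.symm)
      refine ⟨s, m.isOpenEmbedding.injective ?_⟩
      rw [← ht, ← hs, ← Scheme.Hom.comp_apply, ← Scheme.Hom.comp_apply, hm]
    have hz' : z' ∈ closure (Set.range δ) :=
      closure_mono hsub (m.isOpenEmbedding.isOpenMap.preimage_closure_subset_closure_preimage hz)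
    rw [hδ.closure_eq] at hz'
    obtain ⟨s, rfl⟩ := hz'
    exact ⟨τ s, by rw [← Scheme.Hom.comp_apply, ← hm, Scheme.Hom.comp_apply]⟩
  rcases hcov (pullback.fst p p z) with h₁ | h₁ <;> rcases hcov (pullback.snd p p z) with h₂ | h₂
  · exact piece iA iA (pullback.diagonal (iA ≫ p)) iA (by simp) (by simp)
      (pullback.diagonal (iA ≫ p)).isClosedEmbedding.isClosed_range (fun x y _ => ⟨x, rfl⟩) h₁ h₂
  · exact piece iA iB γ (a ≫ iA) (by rw [reassoc_of% hγ₁]) (by rw [reassoc_of% hγ₂, hw]) hγ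
      (fun x y e => by
        obtain ⟨w, hw₁, -⟩ := hint x y e
        exact ⟨w, by rw [Scheme.Hom.comp_apply, hw₁]⟩) h₁ h₂
  · let σ := pullbackSymmetry (iA ≫ p) (iB ≫ p)
    refine piece iB iA (γ ≫ σ.hom) (a ≫ iA) (by simp [σ, reassoc_of% hγ₂, hw]) (by simp [σ, reassoc_of% hγ₁]) ?_
      (fun x y e => by
        obtain ⟨w, hw₁, -⟩ := hint y x e.symm
        exact ⟨w, by rw [Scheme.Hom.comp_apply, hw₁, e]⟩) h₁ h₂
    rw [Scheme.Hom.comp_base, TopCat.coe_comp, Set.range_comp]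
    exact σ.hom.homeomorph.isClosedMap _ hγ
  · exact piece iB iB (pullback.diagonal (iB ≫ p)) iB (by simp) (by simp)
      (pullback.diagonal (iB ≫ p)).isClosedEmbedding.isClosed_range (fun x y _ => ⟨x, rfl⟩) h₁ h₂

/-- The generic points of a common open piece near the image come from the image. -/
theorem exists_open_specializes {X W : Scheme.{u}} [IsNoetherian X] [IsNoetherian W] {k : X ⟶ W}
    (hk : IsLocImmersion k) :
    ∃ O : W.Opens, Set.range k ⊆ O ∧ ∀ w ∈ O, ∃ η, k η ⤳ w := by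
  let Bad : Set W := ⋃ C ∈ {C ∈ irreducibleComponents W | Disjoint C (Set.range k)}, C
  have hBad : IsClosed Bad :=
    ((TopologicalSpace.NoetherianSpace.finite_irreducibleComponents).subset fun C hC => hC.1).isClosed_biUnion
      fun C hC => isClosed_of_mem_irreducibleComponents C hC.1
  refine ⟨⟨Badᶜ, hBad.isOpen_compl⟩, fun t ht hb => ?_, fun w hw => ?_⟩
  · obtain ⟨C, hC, htC⟩ := Set.mem_iUnion₂.1 hb
    exact Set.disjoint_left.1 hC.2 htC ht
  · by_contra hne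
    push Not at hne
    refine hw (Set.mem_iUnion₂.2 ⟨irreducibleComponent w,
      ⟨irreducibleComponent_mem_irreducibleComponents w, ?_⟩, mem_irreducibleComponent⟩)
    refine Set.disjoint_left.2 fun c hc hck => ?_
    have hgp := (isIrreducible_irreducibleComponent (x := w)).isGenericPoint_genericPoint isClosed_irreducibleComponent
    obtain ⟨x, rfl⟩ := hck
    obtain ⟨x', -, hx'⟩ := exists_specializes_lift hk.1 (hgp.specializes hc)
    exact hne x' (hx' ▸ hgp.specializes mem_irreducibleComponent)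

theorem exists_specializes_of_mem_closure_range {W P : Scheme.{u}} [IsNoetherian W] (g : W ⟶ P) {z : P}
    (hz : z ∈ closure (Set.range g)) : ∃ w, g w ⤳ z := by
  rw [← Set.image_univ, ← sUnion_irreducibleComponents, Set.sUnion_eq_biUnion, Set.image_iUnion₂,
    TopologicalSpace.NoetherianSpace.finite_irreducibleComponents.closure_biUnion] at hz
  obtain ⟨C, hC, hzC⟩ := Set.mem_iUnion₂.1 hz
  have hgp := hC.1.isGenericPoint_genericPoint (isClosed_of_mem_irreducibleComponents C hC)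
  refine ⟨hC.1.genericPoint, specializes_iff_mem_closure.2 (closure_minimal ?_ isClosed_closure hzC)⟩
  rintro _ ⟨c, hc, rfl⟩
  exact ((hgp.specializes hc).map g.continuous).mem_closed isClosed_closure (subset_closure rfl)

/-- Finite type models of two open pieces glue to a finite type model of their union. -/
theorem exists_factorization_union {X S : Scheme.{u}} [IsNoetherian X] [IsNoetherian S] (f : X ⟶ S) [IsSeparated f]
    (U₁ U₂ : X.Opens) (hU : U₁ ⊔ U₂ = ⊤) (Y₁ Y₂ : Scheme.{u}) [IsNoetherian Y₁] [IsNoetherian Y₂]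
    (k₁ : (U₁ : Scheme.{u}) ⟶ Y₁) (k₂ : (U₂ : Scheme.{u}) ⟶ Y₂) (p₁ : Y₁ ⟶ S) (p₂ : Y₂ ⟶ S)
    (hk₁ : IsLocImmersion k₁) (hk₂ : IsLocImmersion k₂)
    [IsSeparated p₁] [IsSeparated p₂] [LocallyOfFiniteType p₁] [LocallyOfFiniteType p₂]
    (h₁ : k₁ ≫ p₁ = U₁.ι ≫ f) (h₂ : k₂ ≫ p₂ = U₂.ι ≫ f) :
    ∃ (Y : Scheme.{u}) (k : X ⟶ Y) (p : Y ⟶ S), IsNoetherian Y ∧ IsLocImmersion k ∧ IsSeparated p ∧
      LocallyOfFiniteType p ∧ k ≫ p = f := by
  haveI := isNoetherian_open U₁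
  haveI := isNoetherian_open U₂
  haveI := isNoetherian_open (U₁ ⊓ U₂)
  have hf₁ := isLocImmersion_homOfLE_comp hk₁ (X.homOfLE (inf_le_left : U₁ ⊓ U₂ ≤ U₁))
  have hf₂ := isLocImmersion_homOfLE_comp hk₂ (X.homOfLE (inf_le_right : U₁ ⊓ U₂ ≤ U₂))
  obtain ⟨W₀, k₀, g₁, g₂, hk₀, hg₁, hg₂, hg, hkg₁, hkg₂⟩ := exists_common_open _ _ p₁ p₂ hf₁ hf₂
    (show (X.homOfLE inf_le_left ≫ k₁) ≫ p₁ = (X.homOfLE inf_le_right ≫ k₂) ≫ p₂ by
      simp only [Category.assoc, h₁, h₂, Scheme.homOfLE_ι_assoc])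
  haveI := hg₁
  haveI := hg₂
  haveI : IsLocallyNoetherian W₀ := LocallyOfFiniteType.isLocallyNoetherian g₁
  haveI : NoetherianSpace W₀ := g₁.isOpenEmbedding.isInducing.noetherianSpace
  haveI : IsNoetherian W₀ := ⟨⟩
  obtain ⟨O, hkO, hgen⟩ := exists_open_specializes hk₀
  -- the graph of the common piece
  let γW : O.toScheme ⟶ pullback p₁ p₂ :=
    pullback.lift (O.ι ≫ g₁) (O.ι ≫ g₂) (by rw [Category.assoc, Category.assoc, hg])
  haveI : IsLocallyNoetherian (pullback p₁ p₂) := LocallyOfFiniteType.isLocallyNoetherian (pullback.fst p₁ p₂)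
  haveI : CompactSpace (pullback p₁ p₂ : Scheme.{u}) := QuasiCompact.compactSpace_of_compactSpace (pullback.fst p₁ p₂)
  haveI : IsNoetherian (pullback p₁ p₂) := ⟨⟩
  haveI := isNoetherian_open O
  haveI : IsImmersion γW := by
    haveI : IsImmersion (γW ≫ pullback.fst p₁ p₂) := by rw [pullback.lift_fst]; infer_instance
    exact IsImmersion.of_comp γW (pullback.fst p₁ p₂)
  let kO : (U₁ ⊓ U₂ : X.Opens).toScheme ⟶ O.toScheme :=
    IsOpenImmersion.lift O.ι k₀ (by rw [Scheme.Opens.range_ι]; exact hkO)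
  have hkO' : kO ≫ O.ι = k₀ := IsOpenImmersion.lift_fac _ _ _
  have hγ₁ : (kO ≫ γW) ≫ pullback.fst p₁ p₂ = X.homOfLE inf_le_left ≫ k₁ := by
    simp [γW, reassoc_of% hkO', hkg₁]
  have hγ₂ : (kO ≫ γW) ≫ pullback.snd p₁ p₂ = X.homOfLE inf_le_right ≫ k₂ := by
    simp [γW, reassoc_of% hkO', hkg₂]
  have hC : ∀ z ∈ (coborder (Set.range γW))ᶜ, pullback.fst p₁ p₂ z ∈ Set.range k₁ →
      pullback.snd p₁ p₂ z ∈ Set.range k₂ → False := by
    intro z hz hz₁ hz₂
    rw [coborder, compl_compl] at hz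
    obtain ⟨w, hw⟩ := exists_specializes_of_mem_closure_range γW hz.1
    obtain ⟨η, hη⟩ := hgen w.1 w.2
    have hη' : kO η ⤳ w := by
      refine O.ι.isEmbedding.isInducing.specializes_iff.1 ?_
      rw [← Scheme.Hom.comp_apply, hkO']
      exact hη
    obtain ⟨x, hx⟩ := mem_range_of_specializes f U₁ U₂ hk₁ hk₂ h₁ h₂ (kO ≫ γW) hγ₁ hγ₂
      (η := η) ((hη'.map γW.continuous).trans hw) hz₁ hz₂
    exact hz.2 ⟨kO x, hx⟩
  obtain ⟨A, B, hA, hB, hAB⟩ := exists_opens_of_closed (pullback.fst p₁ p₂) (pullback.snd p₁ p₂) _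
    γW.isLocallyClosed_range.isOpen_coborder.isClosed_compl (Set.range k₁) (Set.range k₂)
    (fun _ => exists_open_notMem hk₁.1) (fun _ => exists_open_notMem hk₂.1) hC
  let e₁ := O.ι ≫ g₁
  let e₂ := O.ι ≫ g₂
  let W : O.toScheme.Opens := e₁ ⁻¹ᵁ A ⊓ e₂ ⁻¹ᵁ B
  let a : W.toScheme ⟶ A.toScheme := IsOpenImmersion.lift A.ι (W.ι ≫ e₁) (by
    rw [Scheme.Opens.range_ι]; rintro _ ⟨w, rfl⟩; exact w.2.1)
  let b : W.toScheme ⟶ B.toScheme := IsOpenImmersion.lift B.ι (W.ι ≫ e₂) (by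
    rw [Scheme.Opens.range_ι]; rintro _ ⟨w, rfl⟩; exact w.2.2)
  have ha : a ≫ A.ι = W.ι ≫ e₁ := IsOpenImmersion.lift_fac _ _ _
  have hb : b ≫ B.ι = W.ι ≫ e₂ := IsOpenImmersion.lift_fac _ _ _
  haveI : IsOpenImmersion a := by
    haveI : IsOpenImmersion (a ≫ A.ι) := by rw [ha]; infer_instance
    exact IsOpenImmersion.of_comp a A.ι
  haveI : IsOpenImmersion b := by
    haveI : IsOpenImmersion (b ≫ B.ι) := by rw [hb]; infer_instance
    exact IsOpenImmersion.of_comp b B.ι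
  obtain ⟨P, iA, iB, hiA, hiB, hpo, hcov, hint⟩ := ConsPropLib.exists_union a b
  haveI := hiA
  haveI := hiB
  let p : P ⟶ S := hpo.desc (A.ι ≫ p₁) (B.ι ≫ p₂) (by
    rw [reassoc_of% ha, reassoc_of% hb, Category.assoc, Category.assoc, hg])
  have hpA : iA ≫ p = A.ι ≫ p₁ := hpo.inl_desc _ _ _
  have hpB : iB ≫ p = B.ι ≫ p₂ := hpo.inr_desc _ _ _
  haveI : IsSeparated (iA ≫ p) := by rw [hpA]; infer_instance
  haveI : IsSeparated (iB ≫ p) := by rw [hpB]; infer_instance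
  haveI : LocallyOfFiniteType (iA ≫ p) := by rw [hpA]; infer_instance
  haveI : LocallyOfFiniteType (iB ≫ p) := by rw [hpB]; infer_instance
  -- the graph of the shrunk common piece is closed
  let m : pullback (iA ≫ p) (iB ≫ p) ⟶ pullback p₁ p₂ :=
    pullback.map _ _ _ _ A.ι B.ι (𝟙 _) (by simp [hpA]) (by simp [hpB])
  let γ : W.toScheme ⟶ pullback (iA ≫ p) (iB ≫ p) := pullback.lift a b (by rw [reassoc_of% hpo.w])
  have hγm : γ ≫ m = W.ι ≫ γW := by
    apply pullback.hom_ext <;> simp [γ, m, γW, ha, hb, e₁, e₂]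
  have hγ : IsClosed (Set.range γ) := by
    refine isClosed_of_closure_subset fun z hz => ?_
    have hm₁ : pullback.fst p₁ p₂ (m z) ∈ A := by
      rw [← Scheme.Hom.comp_apply, show m ≫ pullback.fst p₁ p₂ = pullback.fst _ _ ≫ A.ι by simp [m],
        Scheme.Hom.comp_apply]
      exact (pullback.fst (iA ≫ p) (iB ≫ p) z).2
    have hm₂ : pullback.snd p₁ p₂ (m z) ∈ B := by
      rw [← Scheme.Hom.comp_apply, show m ≫ pullback.snd p₁ p₂ = pullback.snd _ _ ≫ B.ι by simp [m],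
        Scheme.Hom.comp_apply]
      exact (pullback.snd (iA ≫ p) (iB ≫ p) z).2
    have hcl : m z ∈ closure (Set.range γW) := by
      refine closure_mono ?_ (image_closure_subset_closure_image m.continuous ⟨z, hz, rfl⟩)
      rintro _ ⟨_, ⟨w, rfl⟩, rfl⟩
      exact ⟨W.ι w, by rw [← Scheme.Hom.comp_apply, ← hγm, Scheme.Hom.comp_apply]⟩
    obtain ⟨w, hw⟩ : m z ∈ Set.range γW := by
      by_contra h
      refine hAB (m z) ?_ hm₁ hm₂
      rw [coborder, compl_compl]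
      exact ⟨hcl, h⟩
    have hwW : w ∈ W := by
      refine ⟨?_, ?_⟩
      · show e₁ w ∈ A
        rw [show e₁ = γW ≫ pullback.fst p₁ p₂ by simp [γW, e₁], Scheme.Hom.comp_apply, hw]
        exact hm₁
      · show e₂ w ∈ B
        rw [show e₂ = γW ≫ pullback.snd p₁ p₂ by simp [γW, e₂], Scheme.Hom.comp_apply, hw]
        exact hm₂
    refine ⟨⟨w, hwW⟩, m.isOpenEmbedding.injective ?_⟩
    rw [← Scheme.Hom.comp_apply, hγm, Scheme.Hom.comp_apply]
    exact hw
  haveI : IsSeparated p := isSeparated_union p hpo.w hcov hint γ (pullback.lift_fst _ _ _) (pullback.lift_snd _ _ _) hγ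
  haveI : LocallyOfFiniteType p := by
    refine @IsZariskiLocalAtSource.of_iSup_eq_top @LocallyOfFiniteType inferInstance P S p Bool
      (fun t => bif t then iA.opensRange else iB.opensRange) (top_le_iff.1 fun t _ => ?_) fun t => ?_
    · rcases hcov t with ⟨x, hx⟩ | ⟨x, hx⟩
      · exact TopologicalSpace.Opens.mem_iSup.2 ⟨true, x, hx⟩
      · exact TopologicalSpace.Opens.mem_iSup.2 ⟨false, x, hx⟩
    · cases t
      · show LocallyOfFiniteType (iB.opensRange.ι ≫ p)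
        rw [← Scheme.Hom.isoOpensRange_inv_comp iB, Category.assoc]
        infer_instance
      · show LocallyOfFiniteType (iA.opensRange.ι ≫ p)
        rw [← Scheme.Hom.isoOpensRange_inv_comp iA, Category.assoc]
        infer_instance
  haveI : IsLocallyNoetherian P := LocallyOfFiniteType.isLocallyNoetherian p
  haveI := isNoetherian_open A
  haveI := isNoetherian_open B
  haveI : CompactSpace P := by
    refine ⟨?_⟩
    have h : (Set.univ : Set P) = Set.range iA ∪ Set.range iB := (Set.eq_univ_of_forall hcov).symm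
    rw [h]
    exact (isCompact_range iA.continuous).union (isCompact_range iB.continuous)
  -- the morphism to the union
  let kA : (U₁ : Scheme.{u}) ⟶ A.toScheme := IsOpenImmersion.lift A.ι k₁ (by rw [Scheme.Opens.range_ι]; exact hA)
  let kB : (U₂ : Scheme.{u}) ⟶ B.toScheme := IsOpenImmersion.lift B.ι k₂ (by rw [Scheme.Opens.range_ι]; exact hB)
  have hkA : kA ≫ A.ι = k₁ := IsOpenImmersion.lift_fac _ _ _
  have hkB : kB ≫ B.ι = k₂ := IsOpenImmersion.lift_fac _ _ _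
  have hlA : IsLocImmersion kA := isLocImmersion_of_comp_openImmersion (by rwa [hkA])
  have hlB : IsLocImmersion kB := isLocImmersion_of_comp_openImmersion (by rwa [hkB])
  let kW : (U₁ ⊓ U₂ : X.Opens).toScheme ⟶ W.toScheme := IsOpenImmersion.lift W.ι kO (by
    rw [Scheme.Opens.range_ι]
    rintro _ ⟨x, rfl⟩
    refine ⟨?_, ?_⟩
    · show e₁ (kO x) ∈ A
      rw [← Scheme.Hom.comp_apply, show kO ≫ e₁ = X.homOfLE inf_le_left ≫ k₁ by simp [e₁, reassoc_of% hkO', hkg₁],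
        Scheme.Hom.comp_apply]
      exact hA ⟨_, rfl⟩
    · show e₂ (kO x) ∈ B
      rw [← Scheme.Hom.comp_apply, show kO ≫ e₂ = X.homOfLE inf_le_right ≫ k₂ by simp [e₂, reassoc_of% hkO', hkg₂],
        Scheme.Hom.comp_apply]
      exact hB ⟨_, rfl⟩)
  have hkW : kW ≫ W.ι = kO := IsOpenImmersion.lift_fac _ _ _
  have hagree : X.homOfLE (inf_le_left : U₁ ⊓ U₂ ≤ U₁) ≫ kA ≫ iA =
      X.homOfLE (inf_le_right : U₁ ⊓ U₂ ≤ U₂) ≫ kB ≫ iB := by
    have h1 : kW ≫ a = X.homOfLE inf_le_left ≫ kA := by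
      rw [← cancel_mono A.ι]
      simp [ha, hkA, reassoc_of% hkW, e₁, reassoc_of% hkO', hkg₁]
    have h2 : kW ≫ b = X.homOfLE inf_le_right ≫ kB := by
      rw [← cancel_mono B.ι]
      simp [hb, hkB, reassoc_of% hkW, e₂, reassoc_of% hkO', hkg₂]
    rw [← reassoc_of% h1, ← reassoc_of% h2, hpo.w]
  have hcovX : ∀ x : X, x ∈ U₁ ∨ x ∈ U₂ := fun x => by
    have hx : x ∈ U₁ ⊔ U₂ := by rw [hU]; trivial
    exact hx
  obtain ⟨k, hkU₁, hkU₂⟩ := ConsPropLib.exists_hom_of_cover U₁ U₂ hcovX (kA ≫ iA) (kB ≫ iB) hagree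
  have hv₁ : ∀ x (hx : x ∈ U₁), k x = iA (kA ⟨x, hx⟩) := fun x hx =>
    congrArg (fun m : (U₁ : Scheme.{u}) ⟶ P => m ⟨x, hx⟩) hkU₁
  have hv₂ : ∀ x (hx : x ∈ U₂), k x = iB (kB ⟨x, hx⟩) := fun x hx =>
    congrArg (fun m : (U₂ : Scheme.{u}) ⟶ P => m ⟨x, hx⟩) hkU₂
  refine ⟨P, k, p, ⟨⟩, ⟨isLocalizing_of_forall_exists_open fun x => ?_, ?_⟩, inferInstance, inferInstance, ?_⟩
  · rcases hcovX x with hx | hx
    · exact ⟨U₁, hx, hkU₁ ▸ isLocalizing_comp_openImmersion hlA.1 iA⟩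
    · exact ⟨U₂, hx, hkU₂ ▸ isLocalizing_comp_openImmersion hlB.1 iB⟩
  · -- injectivity
    have cross : ∀ x y (hx : x ∈ U₁) (hy : y ∈ U₂), k x = k y → x = y := by
      intro x y hx hy e
      rw [hv₁ x hx, hv₂ y hy] at e
      obtain ⟨w, hwa, hwb⟩ := hint _ _ e
      have hz₁ : pullback.fst p₁ p₂ (γW (W.ι w)) = k₁ ⟨x, hx⟩ := by
        have hm : W.ι ≫ γW ≫ pullback.fst p₁ p₂ = a ≫ A.ι := by simp [γW, ha, e₁]
        have := congrArg (fun m : W.toScheme ⟶ Y₁ => m w) hm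
        refine this.trans ?_
        show A.ι (a w) = k₁ ⟨x, hx⟩
        rw [hwa, ← Scheme.Hom.comp_apply, hkA]
      have hz₂ : pullback.snd p₁ p₂ (γW (W.ι w)) = k₂ ⟨y, hy⟩ := by
        have hm : W.ι ≫ γW ≫ pullback.snd p₁ p₂ = b ≫ B.ι := by simp [γW, hb, e₂]
        have := congrArg (fun m : W.toScheme ⟶ Y₂ => m w) hm
        refine this.trans ?_
        show B.ι (b w) = k₂ ⟨y, hy⟩
        rw [hwb, ← Scheme.Hom.comp_apply, hkB]
      obtain ⟨η, hη⟩ := hgen (W.ι w).1 (W.ι w).2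
      have hη' : kO η ⤳ W.ι w := by
        refine O.ι.isEmbedding.isInducing.specializes_iff.1 ?_
        rw [← Scheme.Hom.comp_apply, hkO']
        exact hη
      obtain ⟨v, hv⟩ := mem_range_of_specializes f U₁ U₂ hk₁ hk₂ h₁ h₂ (kO ≫ γW) hγ₁ hγ₂
        (η := η) (hη'.map γW.continuous) ⟨_, hz₁.symm⟩ ⟨_, hz₂.symm⟩
      have e₁' : X.homOfLE inf_le_left v = (⟨x, hx⟩ : U₁) := hk₁.2 (by
        show k₁ (X.homOfLE inf_le_left v) = k₁ ⟨x, hx⟩
        rw [← Scheme.Hom.comp_apply, ← hγ₁, Scheme.Hom.comp_apply]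
        exact (congrArg (fun t => pullback.fst p₁ p₂ t) hv).trans hz₁)
      have e₂' : X.homOfLE inf_le_right v = (⟨y, hy⟩ : U₂) := hk₂.2 (by
        show k₂ (X.homOfLE inf_le_right v) = k₂ ⟨y, hy⟩
        rw [← Scheme.Hom.comp_apply, ← hγ₂, Scheme.Hom.comp_apply]
        exact (congrArg (fun t => pullback.snd p₁ p₂ t) hv).trans hz₂)
      have h1 : v.1 = x := by simpa [Scheme.homOfLE_apply'] using congrArg Subtype.val e₁'
      have h2 : v.1 = y := by simpa [Scheme.homOfLE_apply'] using congrArg Subtype.val e₂'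
      exact h1.symm.trans h2
    intro x y e
    change k x = k y at e
    rcases hcovX x with hx | hx <;> rcases hcovX y with hy | hy
    · exact congrArg Subtype.val (hlA.2 (iA.isOpenEmbedding.injective ((hv₁ x hx).symm.trans (e.trans (hv₁ y hy)))))
    · exact cross x y hx hy e
    · exact (cross y x hy hx e.symm).symm
    · exact congrArg Subtype.val (hlB.2 (iB.isOpenEmbedding.injective ((hv₂ x hx).symm.trans (e.trans (hv₂ y hy)))))
  · refine Scheme.Cover.hom_ext (X.openCoverOfIsOpenCover (fun t : ULift.{u} Bool => bif t.down then U₁ else U₂)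
      (top_le_iff.1 fun x _ => ?_)) _ _ fun t => ?_
    · rcases hcovX x with hx | hx
      · exact TopologicalSpace.Opens.mem_iSup.2 ⟨⟨true⟩, hx⟩
      · exact TopologicalSpace.Opens.mem_iSup.2 ⟨⟨false⟩, hx⟩
    · obtain ⟨_ | _⟩ := t
      · show U₂.ι ≫ k ≫ p = U₂.ι ≫ f
        rw [reassoc_of% hkU₂, hpB, reassoc_of% hkB, h₂]
      · show U₁.ι ≫ k ≫ p = U₁.ι ≫ f
        rw [reassoc_of% hkU₁, hpA, reassoc_of% hkA, h₁]

end Groth.Agent.LocImm10
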