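import Groth.Agent.LocImm10.Locus
import Mathlib.Topology.LocallyClosed

/-!
# Two finite type models of pieces of a separated scheme
-/

universe u

set_option linter.style.haveILetI false
set_option backward.isDefEq.respectTransparency false

open CategoryTheory Limits AlgebraicGeometry LocImm TopologicalSpace

namespace Groth.Agent.LocImm10

variable {X Y Z : Scheme.{u}}

theorem isLocalizing_of_forall_exists_open {f : X ⟶ Y} (h : ∀ x : X, ∃ V : X.Opens, x ∈ V ∧ IsLocalizing (V.ι ≫ f)) :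
    IsLocalizing f := by
  refine isLocalizing_of_chart _ fun x => ?_
  obtain ⟨V, hxV, hV⟩ := h x
  obtain ⟨U, V', e, hU, hV', -, -, hx, hl⟩ := exists_chart_within hV ⟨x, hxV⟩ ⊤ trivial ⊤ trivial
  refine ⟨V', U, hV', hU, V'.ι ≫ V.ι, U.ι, inferInstance, inferInstance, (V.ι ≫ f).resLE U V' e, ?_,
    ⟨⟨⟨x, hxV⟩, hx⟩, rfl⟩, isLocHom_resLE_appTop _ e hl⟩
  rw [Category.assoc, Scheme.Hom.resLE_comp_ι]

theorem isLocalizing_comp_openImmersion {f : X ⟶ Y} (hf : IsLocalizing f) (j : Y ⟶ Z) [IsOpenImmersion j] :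
    IsLocalizing (f ≫ j) := by
  refine isLocalizing_of_chart _ fun x => ?_
  obtain ⟨U, V', e, hU, hV', -, -, hx, hl⟩ := exists_chart_within hf x ⊤ trivial ⊤ trivial
  refine ⟨V', U, hV', hU, V'.ι, U.ι ≫ j, inferInstance, inferInstance, f.resLE U V' e, ?_,
    ⟨⟨x, hx⟩, rfl⟩, isLocHom_resLE_appTop _ e hl⟩
  rw [Scheme.Hom.resLE_comp_ι_assoc]

theorem isLocImmersion_homOfLE_comp {f : Y ⟶ Z} (hf : IsLocImmersion f) (i : X ⟶ Y) [IsOpenImmersion i] :
    IsLocImmersion (i ≫ f) := by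
  refine ⟨?_, hf.2.comp i.isOpenEmbedding.injective⟩
  have h := isLocalizing_restrict hf.1 i.opensRange
  rw [← i.isoOpensRange_hom_ι, Category.assoc]
  refine isLocalizing_of_chart _ fun x => ?_
  obtain ⟨U, V', e, hU, hV', -, -, hx, hl⟩ := exists_chart_within h (i.isoOpensRange.hom x) ⊤ trivial ⊤ trivial
  refine ⟨V', U, hV', hU, V'.ι ≫ i.isoOpensRange.inv, U.ι, inferInstance, inferInstance,
    (i.opensRange.ι ≫ f).resLE U V' e, ?_, ⟨⟨_, hx⟩, ?_⟩, isLocHom_resLE_appTop _ e hl⟩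
  · rw [Category.assoc, Iso.inv_hom_id_assoc, Scheme.Hom.resLE_comp_ι]
  · show i.isoOpensRange.inv (i.isoOpensRange.hom x) = x
    rw [← Scheme.Hom.comp_apply, Iso.hom_inv_id]
    rfl

/-- A point outside the image of a localizing morphism is outside an open neighbourhood of the image. -/
theorem exists_open_notMem {f : X ⟶ Y} (hf : IsLocalizing f) {y : Y} (hy : y ∉ Set.range f) :
    ∃ O : Y.Opens, Set.range f ⊆ O ∧ y ∉ O := by
  refine ⟨⟨(closure {y})ᶜ, isClosed_closure.isOpen_compl⟩, ?_, fun h => h (subset_closure rfl)⟩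
  rintro _ ⟨x, rfl⟩ hx
  obtain ⟨x', -, hx'⟩ := exists_specializes_lift hf (specializes_iff_mem_closure.2 hx)
  exact hy ⟨x', hx'⟩

/-- Two opens separating a closed set from a product of two generalization closed sets. -/
theorem exists_opens_of_closed {P A B : Scheme.{u}} [IsNoetherian P] (p : P ⟶ A) (q : P ⟶ B) (C : Set P)
    (hC : IsClosed C) (RA : Set A) (RB : Set B)
    (hA : ∀ a, a ∉ RA → ∃ O : A.Opens, RA ⊆ O ∧ a ∉ O)
    (hB : ∀ b, b ∉ RB → ∃ O : B.Opens, RB ⊆ O ∧ b ∉ O)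
    (h : ∀ z ∈ C, p z ∈ RA → q z ∈ RB → False) :
    ∃ (A' : A.Opens) (B' : B.Opens), RA ⊆ A' ∧ RB ⊆ B' ∧ ∀ z ∈ C, p z ∈ A' → q z ∈ B' → False := by
  obtain ⟨S, hirr, hsup⟩ := NoetherianSpace.exists_finset_irreducible (⟨C, hC⟩ : Closeds P)
  have key : ∀ T : Closeds P, IsIrreducible (T : Set P) → (T : Set P) ⊆ C →
      ∃ (A' : A.Opens) (B' : B.Opens), RA ⊆ A' ∧ RB ⊆ B' ∧ ∀ z ∈ T, p z ∈ A' → q z ∈ B' → False := by
    intro T hT hTC
    have hgp := hT.isGenericPoint_genericPoint T.isClosed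
    by_cases hpa : p hT.genericPoint ∈ RA
    · obtain ⟨O, hO, hbO⟩ := hB _ fun hqb => h _ (hTC hgp.mem) hpa hqb
      exact ⟨⊤, O, fun _ _ => trivial, hO, fun z hz _ hzO =>
        hbO (((hgp.specializes hz).map q.continuous).mem_open O.2 hzO)⟩
    · obtain ⟨O, hO, haO⟩ := hA _ hpa
      exact ⟨O, ⊤, hO, fun _ _ => trivial, fun z hz hzO _ =>
        haO (((hgp.specializes hz).map p.continuous).mem_open O.2 hzO)⟩
  have hle : ∀ T ∈ S, (T : Set P) ⊆ C := fun T hT => by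
    have h1 : T ≤ S.sup id := Finset.le_sup (f := id) hT
    rw [← hsup] at h1
    exact h1
  choose A' B' hA' hB' hAB using fun T : {T // T ∈ S} => key T.1 (hirr T) (hle T.1 T.2)
  refine ⟨⟨⋂ T, (A' T : Set A), isOpen_iInter_of_finite fun T => (A' T).2⟩,
    ⟨⋂ T, (B' T : Set B), isOpen_iInter_of_finite fun T => (B' T).2⟩,
    Set.subset_iInter hA', Set.subset_iInter hB', fun z hz ha hb => ?_⟩
  have hC' : (⟨C, hC⟩ : Closeds P) = S.sup id := hsup
  have hz' : z ∈ S.sup id := hC' ▸ hz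
  obtain ⟨T, hT, hzT⟩ : ∃ T ∈ S, z ∈ T := by
    clear hsup hC' hz ha hb hle hAB hA' hB' A' B' hirr key
    classical
    induction S using Finset.induction with
    | empty => exact (Set.notMem_empty z hz').elim
    | insert T S _ ih =>
      rw [Finset.sup_insert] at hz'
      rcases hz' with h | h
      · exact ⟨T, Finset.mem_insert_self _ _, h⟩
      · obtain ⟨T', hT', h'⟩ := ih h
        exact ⟨T', Finset.mem_insert_of_mem hT', h'⟩
  exact hAB ⟨T, hT⟩ z hzT (Set.mem_iInter.1 ha ⟨T, hT⟩) (Set.mem_iInter.1 hb ⟨T, hT⟩)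

/-- A limit of the common part lying in both models lies in the common part. -/
theorem mem_range_of_specializes {X S Y₁ Y₂ : Scheme.{u}} (f : X ⟶ S) [IsSeparated f] (U₁ U₂ : X.Opens)
    [IsNoetherian U₁.toScheme] [IsNoetherian U₂.toScheme] [IsNoetherian Y₁] [IsNoetherian Y₂]
    {k₁ : U₁.toScheme ⟶ Y₁} {k₂ : U₂.toScheme ⟶ Y₂} (hk₁ : IsLocImmersion k₁) (hk₂ : IsLocImmersion k₂)
    {p₁ : Y₁ ⟶ S} {p₂ : Y₂ ⟶ S} (h₁ : k₁ ≫ p₁ = U₁.ι ≫ f) (h₂ : k₂ ≫ p₂ = U₂.ι ≫ f)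
    (γ : (U₁ ⊓ U₂ : X.Opens).toScheme ⟶ pullback p₁ p₂)
    (hγ₁ : γ ≫ pullback.fst p₁ p₂ = X.homOfLE inf_le_left ≫ k₁)
    (hγ₂ : γ ≫ pullback.snd p₁ p₂ = X.homOfLE inf_le_right ≫ k₂)
    {z : (pullback p₁ p₂ : Scheme.{u})} {η : (U₁ ⊓ U₂ : X.Opens).toScheme} (hηz : γ η ⤳ z)
    (hz₁ : pullback.fst p₁ p₂ z ∈ Set.range k₁) (hz₂ : pullback.snd p₁ p₂ z ∈ Set.range k₂) :
    z ∈ Set.range γ := by
  obtain ⟨x₁, hx₁⟩ := hz₁
  obtain ⟨x₂, hx₂⟩ := hz₂
  obtain ⟨s₁, hs₁, -, -⟩ := exists_section hk₁.1 x₁ hx₁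
  obtain ⟨s₂, hs₂, -, -⟩ := exists_section hk₂.1 x₂ hx₂
  let l := (pullback p₁ p₂).fromSpecStalk z
  obtain ⟨a₁, ha₁⟩ : ∃ a : Spec ((pullback p₁ p₂).presheaf.stalk z) ⟶ U₁.toScheme, a ≫ k₁ = l ≫ pullback.fst p₁ p₂ :=
    ⟨Spec.map ((pullback.fst p₁ p₂).stalkMap z) ≫ s₁, by
      rw [Category.assoc, hs₁, Scheme.SpecMap_stalkMap_fromSpecStalk]⟩
  obtain ⟨a₂, ha₂⟩ : ∃ a : Spec ((pullback p₁ p₂).presheaf.stalk z) ⟶ U₂.toScheme, a ≫ k₂ = l ≫ pullback.snd p₁ p₂ :=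
    ⟨Spec.map ((pullback.snd p₁ p₂).stalkMap z) ≫ s₂, by
      rw [Category.assoc, hs₂, Scheme.SpecMap_stalkMap_fromSpecStalk]⟩
  have hb : (a₁ ≫ U₁.ι) ≫ f = (a₂ ≫ U₂.ι) ≫ f := by
    simp only [Category.assoc, ← h₁, ← h₂]
    rw [reassoc_of% ha₁, reassoc_of% ha₂, pullback.condition]
  let β := pullback.lift (a₁ ≫ U₁.ι) (a₂ ≫ U₂.ι) hb
  let e := pullback.fst β (pullback.diagonal f)
  have he₁ : e ≫ a₁ ≫ U₁.ι = pullback.snd β (pullback.diagonal f) := by
    have := pullback.condition (f := β) (g := pullback.diagonal f) =≫ pullback.fst f f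
    simpa [β, e] using this
  have he₂ : e ≫ a₂ ≫ U₂.ι = pullback.snd β (pullback.diagonal f) := by
    have := pullback.condition (f := β) (g := pullback.diagonal f) =≫ pullback.snd f f
    simpa [β, e] using this
  -- the part over the common piece factors through the equalizer
  obtain ⟨t, ht₁, ht₂⟩ := Scheme.Pullback.exists_preimage_pullback (f := γ) (g := l) η
    (by
      have hmem : γ η ∈ Set.range l := by rw [Scheme.range_fromSpecStalk]; exact hηz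
      exact hmem.choose) (by
      have hmem : γ η ∈ Set.range l := by rw [Scheme.range_fromSpecStalk]; exact hηz
      exact hmem.choose_spec.symm)
  haveI := mono hk₁
  haveI := mono hk₂
  have hc₁ : pullback.snd γ l ≫ a₁ = pullback.fst γ l ≫ X.homOfLE inf_le_left := by
    rw [← cancel_mono k₁, Category.assoc, Category.assoc, ha₁, ← hγ₁, ← pullback.condition_assoc]
  have hc₂ : pullback.snd γ l ≫ a₂ = pullback.fst γ l ≫ X.homOfLE inf_le_right := by
    rw [← cancel_mono k₂, Category.assoc, Category.assoc, ha₂, ← hγ₂, ← pullback.condition_assoc]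
  have hfac : pullback.snd γ l ≫ β =
      (pullback.fst γ l ≫ (U₁ ⊓ U₂ : X.Opens).ι) ≫ pullback.diagonal f := by
    apply pullback.hom_ext
    · simp [β, reassoc_of% hc₁]
    · simp [β, reassoc_of% hc₂]
  let c := pullback.lift _ _ hfac
  have hq : pullback.snd γ l t ∈ Set.range e := ⟨c t, by
    rw [← Scheme.Hom.comp_apply]
    exact congrArg (fun m : pullback γ l ⟶ Spec ((pullback p₁ p₂).presheaf.stalk z) => m t) (pullback.lift_fst _ _ hfac)⟩
  have hclosed : IsLocalRing.closedPoint ((pullback p₁ p₂).presheaf.stalk z) ∈ Set.range e := by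
    refine Specializes.mem_closed ?_ e.isClosedEmbedding.isClosed_range hq
    exact IsLocalRing.specializes_closedPoint _
  obtain ⟨d, hd⟩ := hclosed
  have hr : Set.range (e ≫ a₁ ≫ U₁.ι) ⊆ Set.range (U₁ ⊓ U₂ : X.Opens).ι := by
    rw [Scheme.Opens.range_ι]
    rintro _ ⟨w, rfl⟩
    refine ⟨?_, ?_⟩
    · exact (a₁ (e w)).2
    · rw [he₁, ← he₂]
      exact (a₂ (e w)).2
  let v := IsOpenImmersion.lift (U₁ ⊓ U₂ : X.Opens).ι (e ≫ a₁ ≫ U₁.ι) hr
  have hv₁ : v ≫ X.homOfLE inf_le_left = e ≫ a₁ := by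
    rw [← cancel_mono U₁.ι, Category.assoc, Category.assoc, Scheme.homOfLE_ι, IsOpenImmersion.lift_fac]
  have hv₂ : v ≫ X.homOfLE inf_le_right = e ≫ a₂ := by
    rw [← cancel_mono U₂.ι, Category.assoc, Category.assoc, Scheme.homOfLE_ι, IsOpenImmersion.lift_fac, he₁, he₂]
  have hvγ : v ≫ γ = e ≫ l := by
    apply pullback.hom_ext
    · rw [Category.assoc, Category.assoc, hγ₁, reassoc_of% hv₁, ha₁]
    · rw [Category.assoc, Category.assoc, hγ₂, reassoc_of% hv₂, ha₂]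
  refine ⟨v d, ?_⟩
  rw [← Scheme.Hom.comp_apply, hvγ, Scheme.Hom.comp_apply, hd]
  exact Scheme.fromSpecStalk_closedPoint

end Groth.Agent.LocImm10
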