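import Groth.Agent.LocImm10.Factor

/-!
# Properties of essentially finite type morphisms that localize
-/

universe u

set_option linter.style.haveILetI false
set_option backward.isDefEq.respectTransparency false

open CategoryTheory Limits AlgebraicGeometry LocImm TopologicalSpace

namespace Groth.Agent.LocImm10

instance : MorphismProperty.IsStableUnderComposition @EssFT.LocallyEssFiniteType.{u} :=
  HasRingHomProperty.stableUnderComposition
    (RingHom.locally_stableUnderComposition RingHom.EssFiniteType.respectsIso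
      RingHom.EssFiniteType.isStableUnderBaseChange.localizationPreserves
      RingHom.EssFiniteType.stableUnderComposition)

/-- The spectrum of a local ring maps to the scheme by a localizing immersion. -/
theorem isLocImmersion_fromSpecStalk {X : Scheme.{u}} (x : X) : IsLocImmersion (X.fromSpecStalk x) := by
  refine ⟨?_, (X.fromSpecStalk x).isEmbedding.injective⟩
  obtain ⟨V, hV, hxV, -⟩ := exists_isAffineOpen_mem_and_subset (show x ∈ (⊤ : X.Opens) from trivial)
  haveI := hV
  letI := (X.presheaf.germ V x hxV).hom.toAlgebra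
  haveI hloc : IsLocalization.AtPrime (X.presheaf.stalk x) (hV.primeIdealOf ⟨x, hxV⟩).asIdeal :=
    hV.isLocalization_stalk ⟨x, hxV⟩
  refine isLocalizing_of_chart _ fun z => ⟨Spec (X.presheaf.stalk x), Spec Γ(X, V), inferInstance, inferInstance,
    𝟙 _, hV.fromSpec, inferInstance, inferInstance, Spec.map (X.presheaf.germ V x hxV), ?_, ⟨z, rfl⟩, ?_⟩
  · rw [Category.id_comp, ← hV.fromSpecStalk_eq_fromSpecStalk hxV]
    rfl
  · exact (arrow_iso_iff (arrowIsoΓSpecOfIsAffine (X.presheaf.germ V x hxV))).1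
      (isLocHom_algebraMap (hV.primeIdealOf ⟨x, hxV⟩).asIdeal.primeCompl)

theorem isLocImmersion_comp_of_isIso {X Y : Scheme.{u}} (e : X ⟶ Y) [IsIso e] : IsLocImmersion e :=
  ⟨isLocalizing_of_isOpenImmersion e, e.isOpenEmbedding.injective⟩

theorem essFT_of_isLocImmersion {X Y : Scheme.{u}} {k : X ⟶ Y} (hk : IsLocImmersion k) :
    EssFT.LocallyEssFiniteType k where
  exists_appLE_essFiniteType x := by
    obtain ⟨U, V, hx, e, h⟩ := hk.1 x
    refine ⟨U, V, hx, e, ?_⟩
    letI := (k.appLE U.1 V.1 e).hom.toAlgebra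
    obtain ⟨S, hS⟩ := h
    haveI := hS
    exact Algebra.EssFiniteType.of_isLocalization _ S

section

variable (P : MorphismProperty Scheme.{u})
  (hα : ∀ {W X Y : Scheme.{u}} [IsNoetherian W] [IsNoetherian X] [IsNoetherian Y] (i : W ⟶ X) (f : X ⟶ Y)
    [IsSeparated f] [EssFT.EssFiniteType f], IsLocImmersion i → P f → P (i ≫ f))
include hα

variable {X Y : Scheme.{u}} [IsNoetherian X] [IsNoetherian Y]

theorem property_cancel {W W' : Scheme.{u}} [IsNoetherian W] [IsNoetherian W'] (e : W ⟶ W') [IsIso e]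
    (g : W' ⟶ Y) [IsSeparated g] [EssFT.EssFiniteType g] : P (e ≫ g) ↔ P g := by
  refine ⟨fun h => ?_, hα e g (isLocImmersion_comp_of_isIso e)⟩
  haveI : IsSeparated (e ≫ g) := inferInstance
  haveI : EssFT.LocallyEssFiniteType e := essFT_of_isLocImmersion (isLocImmersion_comp_of_isIso e)
  haveI : EssFT.LocallyEssFiniteType (e ≫ g) := MorphismProperty.comp_mem _ _ _ inferInstance inferInstance
  haveI : QuasiCompact (e ≫ g) := inferInstance
  haveI : EssFT.EssFiniteType (e ≫ g) := ⟨⟩
  have := hα (inv e) (e ≫ g) (isLocImmersion_comp_of_isIso _) h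
  rwa [IsIso.inv_hom_id_assoc] at this

theorem property_stalk_iff {Z : Scheme.{u}} [IsNoetherian Z] {k : X ⟶ Z} (hk : IsLocalizing k) (h : Z ⟶ Y)
    [IsSeparated h] [EssFT.LocallyEssFiniteType h] (x : X) :
    P (X.fromSpecStalk x ≫ k ≫ h) ↔ P (Z.fromSpecStalk (k x) ≫ h) := by
  haveI : IsSeparated (Z.fromSpecStalk (k x)) := inferInstance
  haveI : EssFT.LocallyEssFiniteType (Z.fromSpecStalk (k x)) :=
    essFT_of_isLocImmersion (isLocImmersion_fromSpecStalk _)
  haveI : IsNoetherianRing (X.presheaf.stalk x) := inferInstance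
  haveI : IsNoetherianRing (Z.presheaf.stalk (k x)) := inferInstance
  haveI := isIso_stalkMap hk x
  haveI : EssFT.LocallyEssFiniteType (Z.fromSpecStalk (k x) ≫ h) :=
    MorphismProperty.comp_mem _ _ _ inferInstance inferInstance
  haveI : QuasiCompact (Z.fromSpecStalk (k x) ≫ h) := inferInstance
  haveI : EssFT.EssFiniteType (Z.fromSpecStalk (k x) ≫ h) := ⟨⟩
  rw [← Scheme.SpecMap_stalkMap_fromSpecStalk_assoc]
  exact property_cancel P hα (Spec.map (k.stalkMap x)) (Z.fromSpecStalk (k x) ≫ h)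

theorem property_stalk (f : X ⟶ Y) [IsSeparated f] [EssFT.EssFiniteType f] (h : P f) (x : X) :
    P (X.fromSpecStalk x ≫ f) :=
  hα _ f (isLocImmersion_fromSpecStalk x) h

/-- A localizable property has open locus, is local, and passes to a finite type model. -/
theorem localizable
    (hβ₁ : ∀ {X Y : Scheme.{u}} [IsNoetherian X] [IsNoetherian Y] (f : X ⟶ Y) [IsSeparated f]
      [LocallyOfFiniteType f], (∀ x : X, P (X.fromSpecStalk x ≫ f)) → P f)
    (hβ₂ : ∀ {X Y : Scheme.{u}} [IsNoetherian X] [IsNoetherian Y] (f : X ⟶ Y) [IsSeparated f]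
      [LocallyOfFiniteType f], IsOpen {x : X | P (X.fromSpecStalk x ≫ f)})
    (f : X ⟶ Y) [IsSeparated f] [EssFT.EssFiniteType f] :
    ((∀ x : X, P (X.fromSpecStalk x ≫ f)) → P f) ∧ IsOpen {x : X | P (X.fromSpecStalk x ≫ f)} ∧
      (P f → ∃ (Z : Scheme.{u}) (i : X ⟶ Z) (h : Z ⟶ Y), IsNoetherian Z ∧ IsLocImmersion i ∧ IsSeparated h ∧
        LocallyOfFiniteType h ∧ QuasiCompact h ∧ P h ∧ i ≫ h = f) := by
  obtain ⟨Z, k, p, hZ, hk, hp, hp', hpq, hf⟩ := exists_factorization f
  haveI := hZ; haveI := hp; haveI := hp'; haveI := hpq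
  have hiff : ∀ x, P (X.fromSpecStalk x ≫ f) ↔ P (Z.fromSpecStalk (k x) ≫ p) := fun x => by
    rw [← hf]; exact property_stalk_iff P hα hk.1 p x
  let O : Z.Opens := ⟨{z | P (Z.fromSpecStalk z ≫ p)}, hβ₂ p⟩
  haveI := isNoetherian_open O
  have hmodel : (∀ x : X, P (X.fromSpecStalk x ≫ f)) →
      ∃ (Z : Scheme.{u}) (i : X ⟶ Z) (h : Z ⟶ Y), IsNoetherian Z ∧ IsLocImmersion i ∧ IsSeparated h ∧
        LocallyOfFiniteType h ∧ QuasiCompact h ∧ P h ∧ i ≫ h = f := by
    intro hall
    let k' : X ⟶ O.toScheme := IsOpenImmersion.lift O.ι k (by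
      rw [Scheme.Opens.range_ι]; rintro _ ⟨x, rfl⟩; exact (hiff x).1 (hall x))
    have hk' : k' ≫ O.ι = k := IsOpenImmersion.lift_fac _ _ _
    refine ⟨O, k', O.ι ≫ p, inferInstance, isLocImmersion_of_comp_openImmersion (ι := O.ι) (by rwa [hk']),
      inferInstance, inferInstance, inferInstance, hβ₁ _ fun u => ?_, by rw [reassoc_of% hk', hf]⟩
    exact (property_stalk_iff P hα (isLocalizing_of_isOpenImmersion O.ι) p u).2 u.2
  refine ⟨fun hall => ?_, ?_, fun h => hmodel (property_stalk P hα f h)⟩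
  · obtain ⟨Z', i, h, hZ', hi, hs, hft, hq, hP, hfac⟩ := hmodel hall
    haveI := hZ'; haveI := hs; haveI := hft; haveI := hq
    haveI : EssFT.EssFiniteType h := ⟨⟩
    rw [← hfac]
    exact hα i h hi hP
  · have : {x : X | P (X.fromSpecStalk x ≫ f)} = k ⁻¹' {z | P (Z.fromSpecStalk z ≫ p)} := Set.ext hiff
    rw [this]
    exact (hβ₂ p).preimage k.continuous

end

end Groth.Agent.LocImm10
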