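import Groth.Agent.LocImm10.Affine
import Mathlib.AlgebraicGeometry.Morphisms.Separated
import Mathlib.AlgebraicGeometry.ResidueField
import Mathlib.AlgebraicGeometry.Stalk

/-!
# Injectivity of separated localizing morphisms
-/

universe u

set_option linter.style.haveILetI false
set_option backward.isDefEq.respectTransparency false

open CategoryTheory Limits AlgebraicGeometry LocImm

namespace Groth.Agent.LocImm10

variable {X Y : Scheme.{u}} {f : X ⟶ Y}

theorem exists_section (hf : IsLocalizing f) (x : X) {y : Y} (hy : f x = y) :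
    ∃ s : Spec (Y.presheaf.stalk y) ⟶ X, s ≫ f = Y.fromSpecStalk y ∧
      s (IsLocalRing.closedPoint (Y.presheaf.stalk y)) = x ∧ Set.range s = {x' | x' ⤳ x} := by
  subst hy
  haveI := isIso_stalkMap hf x
  refine ⟨Spec.map (inv (f.stalkMap x)) ≫ X.fromSpecStalk x, ?_, ?_, ?_⟩
  · rw [Category.assoc, ← Scheme.SpecMap_stalkMap_fromSpecStalk, ← Spec.map_comp_assoc, IsIso.hom_inv_id,
      Spec.map_id, Category.id_comp]
  · rw [Scheme.Hom.comp_apply]
    have h : Spec.map (inv (f.stalkMap x)) (IsLocalRing.closedPoint _) = IsLocalRing.closedPoint _ :=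
      IsLocalRing.comap_closedPoint (inv (f.stalkMap x)).hom
    rw [h, Scheme.fromSpecStalk_closedPoint]
  · rw [Scheme.Hom.comp_base, TopCat.coe_comp, Set.range_comp,
      Set.range_eq_univ.2 (show Function.Surjective (Spec.map (inv (f.stalkMap x))) from (Spec.map (inv (f.stalkMap x))).homeomorph.surjective), Set.image_univ,
      Scheme.range_fromSpecStalk]

theorem eq_of_comp_eq_of_isLocalizing (hf : IsLocalizing f) {K : Type u} [Field K]
    (a b : Spec (CommRingCat.of K) ⟶ X) (hab : a (IsLocalRing.closedPoint K) = b (IsLocalRing.closedPoint K))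
    (h : a ≫ f = b ≫ f) : a = b := by
  obtain ⟨U, V, hx, e, hl⟩ := hf (a (IsLocalRing.closedPoint K))
  obtain ⟨hpre, -⟩ := isPreimmersion_chart f U.2 V.2 e hl
  have hs : ∀ c : Spec (CommRingCat.of K) ⟶ X,
      c (IsLocalRing.closedPoint K) = a (IsLocalRing.closedPoint K) → Set.range c ⊆ Set.range V.1.ι := by
    rintro c hc _ ⟨p, rfl⟩
    rw [Scheme.Opens.range_ι, Subsingleton.elim p (IsLocalRing.closedPoint K), hc]
    exact hx
  rw [← IsOpenImmersion.lift_fac V.1.ι a (hs a rfl), ← IsOpenImmersion.lift_fac V.1.ι b (hs b hab.symm)]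
  congr 1
  rw [← cancel_mono (V.1.ι ≫ f), IsOpenImmersion.lift_fac_assoc, IsOpenImmersion.lift_fac_assoc, h]

theorem injective_of_injOn_maximal (hf : IsLocalizing f) [IsSeparated f]
    (hinj : Set.InjOn (fun x => f x) {x : X | ∀ x' : X, x' ⤳ x → x' = x}) :
    Function.Injective f.base := by
  intro x₁ x₂ heq
  obtain ⟨s₁, hs₁, hc₁, hr₁⟩ := exists_section hf x₁ (y := f x₁) rfl
  obtain ⟨s₂, hs₂, hc₂, hr₂⟩ := exists_section hf x₂ (y := f x₁) heq.symm
  let O := Y.presheaf.stalk (f x₁)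
  let t : Spec O ⟶ pullback f f := pullback.lift s₁ s₂ (hs₁.trans hs₂.symm)
  have hclosed : IsClosed (t ⁻¹' Set.range (pullback.diagonal f)) :=
    (pullback.diagonal f).isClosedEmbedding.isClosed_range.preimage t.continuous
  have hmax : ∀ (s : Spec O ⟶ X) (x : X), s ≫ f = Y.fromSpecStalk (f x₁) → Set.range s = {x' | x' ⤳ x} →
      ∀ p : Spec O, p.asIdeal ∈ (⊥ : Ideal O).minimalPrimes → ∀ x' : X, x' ⤳ s p → x' = s p := by
    intro s x hs hr p hp x' hx'
    have hxx : x' ∈ Set.range s := by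
      rw [hr]
      exact hx'.trans (show s p ∈ {x' | x' ⤳ x} from hr ▸ ⟨p, rfl⟩)
    obtain ⟨q, rfl⟩ := hxx
    have hqp : q ⤳ p := by
      refine (Y.fromSpecStalk (f x₁)).isEmbedding.isInducing.specializes_iff.1 ?_
      rw [← hs, Scheme.Hom.comp_apply, Scheme.Hom.comp_apply]
      exact hx'.map f.continuous
    have hle := (PrimeSpectrum.le_iff_specializes q p).2 hqp
    rw [show q = p from PrimeSpectrum.ext (le_antisymm hle (hp.2 ⟨q.isPrime, bot_le⟩ hle))]
  have hmin : ∀ p : Spec O, p.asIdeal ∈ (⊥ : Ideal O).minimalPrimes → p ∈ t ⁻¹' Set.range (pullback.diagonal f) := by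
    intro p hp
    have hη : s₁ p = s₂ p := by
      refine hinj (hmax s₁ x₁ hs₁ hr₁ p hp) (hmax s₂ x₂ hs₂ hr₂ p hp) ?_
      show f (s₁ p) = f (s₂ p)
      rw [← Scheme.Hom.comp_apply, ← Scheme.Hom.comp_apply, hs₁, hs₂]
    let r := (Spec O).fromSpecResidueField p
    have hpt : r (IsLocalRing.closedPoint _) = p := Scheme.fromSpecResidueField_apply _ _
    have e : r ≫ s₁ = r ≫ s₂ := eq_of_comp_eq_of_isLocalizing hf (K := (Spec O).residueField p) (r ≫ s₁) (r ≫ s₂)
      (((Scheme.Hom.comp_apply r s₁ _).trans (congrArg _ hpt)).trans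
        (hη.trans ((Scheme.Hom.comp_apply r s₂ _).trans (congrArg _ hpt)).symm))
      (by rw [Category.assoc, Category.assoc, hs₁, hs₂])
    have e' : r ≫ t = (r ≫ s₁) ≫ pullback.diagonal f := by
      apply pullback.hom_ext
      · simp [t]
      · simp [t, e]
    refine ⟨(r ≫ s₁) (IsLocalRing.closedPoint _), ?_⟩
    conv_rhs => rw [← hpt]
    rw [← Scheme.Hom.comp_apply, ← Scheme.Hom.comp_apply, e']
  have hc : IsLocalRing.closedPoint O ∈ t ⁻¹' Set.range (pullback.diagonal f) := by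
    obtain ⟨q, hq, hqle⟩ := Ideal.exists_minimalPrimes_le (I := (⊥ : Ideal O))
      (J := (IsLocalRing.closedPoint O).asIdeal) bot_le
    exact ((PrimeSpectrum.le_iff_specializes ⟨q, hq.1.1⟩ _).1 hqle).mem_closed hclosed (hmin ⟨q, hq.1.1⟩ hq)
  obtain ⟨z, hz⟩ := hc
  have h1 := congrArg (fun w => pullback.fst f f w) hz
  have h2 := congrArg (fun w => pullback.snd f f w) hz
  simp only [← Scheme.Hom.comp_apply, pullback.diagonal_fst, pullback.diagonal_snd, t, pullback.lift_fst,
    pullback.lift_snd] at h1 h2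
  rw [← hc₁, ← hc₂, ← h1, h2]

theorem injective_iff [IsNoetherian X] [IsNoetherian Y] (hf : IsLocalizing f) :
    Function.Injective f.base ↔
      (IsSeparated f ∧ Set.InjOn (fun x => f x) {x : X | ∀ x' : X, x' ⤳ x → x' = x}) := by
  refine ⟨fun h => ?_, fun ⟨_, h⟩ => injective_of_injOn_maximal hf h⟩
  haveI := mono ⟨hf, h⟩
  exact ⟨inferInstance, fun a _ b _ hab => h hab⟩

end Groth.Agent.LocImm10
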