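import Groth.Agent.LocImm10.LocusRing
import Groth.Agent.LocImm10.Separated
import Groth.Agent.LocImm10.BaseChange
import Groth.Prelude.Def_EssFT
import Mathlib.AlgebraicGeometry.Morphisms.FlatMono
import Mathlib.AlgebraicGeometry.Noetherian

/-!
# The locus where a morphism essentially of finite type is a localizing immersion
-/

universe u

set_option linter.style.haveILetI false
set_option backward.isDefEq.respectTransparency false

open CategoryTheory Limits AlgebraicGeometry LocImm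

namespace Groth.Agent.LocImm10

/-- A point with an isomorphism of local rings has a localizing chart. -/
theorem exists_chart_of_isIso_stalkMap {X Y : Scheme.{u}} [IsLocallyNoetherian Y] (g : X ⟶ Y)
    [EssFT.LocallyEssFiniteType g] (y : X) (hy : IsIso (g.stalkMap y)) :
    ∃ (U : Y.Opens) (V : X.Opens) (e : V ≤ g ⁻¹ᵁ U), IsAffineOpen U ∧ IsAffineOpen V ∧ y ∈ V ∧
      IsLocHom (g.appLE U V e).hom := by
  obtain ⟨U, V, hyV, e, hft⟩ := EssFT.LocallyEssFiniteType.exists_appLE_essFiniteType (f := g) y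
  let φ := g.appLE U.1 V.1 e
  set q : Spec Γ(X, V.1) := V.2.primeIdealOf ⟨y, hyV⟩ with hqdef
  have hq : V.2.fromSpec q = y := V.2.fromSpec_primeIdealOf _
  haveI : IsIso ((V.2.fromSpec ≫ g).stalkMap q) := by
    rw [Scheme.Hom.stalkMap_comp]
    haveI : IsIso (g.stalkMap (V.2.fromSpec q)) := by rw [hq]; exact hy
    infer_instance
  have h1 : IsIso ((Spec.map φ ≫ U.2.fromSpec).stalkMap q) := by
    rw [Scheme.Hom.stalkMap_congr_hom _ _ (U.2.SpecMap_appLE_fromSpec g V.2 e) q]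
    infer_instance
  rw [Scheme.Hom.stalkMap_comp] at h1
  haveI : IsIso ((Spec.map φ).stalkMap q) :=
    @IsIso.of_isIso_comp_left _ _ _ _ _ (U.2.fromSpec.stalkMap (Spec.map φ q)) _ inferInstance h1
  letI := φ.hom.toAlgebra
  haveI : IsNoetherianRing Γ(Y, U.1) := IsLocallyNoetherian.component_noetherian U
  haveI : Algebra.EssFiniteType Γ(Y, U.1) Γ(X, V.1) := hft
  haveI : IsIso (CommRingCat.ofHom (Localization.localRingHom (PrimeSpectrum.comap φ.hom q).asIdeal q.asIdeal φ.hom rfl)) :=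
    ((MorphismProperty.isomorphisms CommRingCat).arrow_mk_iso_iff (Scheme.arrowStalkMapSpecIso φ q)).1
      (MorphismProperty.isomorphisms.infer_property _)
  have hb : Function.Bijective (Localization.localRingHom (PrimeSpectrum.comap φ.hom q).asIdeal q.asIdeal φ.hom rfl) :=
    ConcreteCategory.bijective_of_isIso
      (CommRingCat.ofHom (Localization.localRingHom (PrimeSpectrum.comap φ.hom q).asIdeal q.asIdeal φ.hom rfl))
  obtain ⟨c, hc, hloc⟩ := exists_away_isLocHom _ q.asIdeal (rfl : (PrimeSpectrum.comap φ.hom q).asIdeal = _) hb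
  refine ⟨U.1, X.basicOpen c, (X.basicOpen_le c).trans e, U.2, V.2.basicOpen c, ?_, ?_⟩
  · rw [← hq]
    show q ∈ V.2.fromSpec ⁻¹ᵁ X.basicOpen c
    rw [V.2.fromSpec_preimage_basicOpen]
    exact hc
  · haveI := V.2.isLocalization_basicOpen c
    have := respectsIso.1 _ (IsLocalization.algEquiv (Submonoid.powers c) (Localization.Away c)
      Γ(X, X.basicOpen c)).toRingEquiv hloc
    convert this
    rw [← Scheme.Hom.appLE_map g e (homOfLE (X.basicOpen_le c)).op]
    refine RingHom.ext fun a => ?_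
    exact ((IsLocalization.algEquiv (Submonoid.powers c) (Localization.Away c) Γ(X, X.basicOpen c)).commutes (φ a)).symm

variable {X Y₁ Y₂ : Scheme.{u}}

/-- Around the image of a localizing immersion a morphism under it is a localizing immersion. -/
theorem exists_open_isLocImmersion [IsNoetherian X] [IsNoetherian Y₁] [IsNoetherian Y₂] {f₁ : X ⟶ Y₁}
    {f₂ : X ⟶ Y₂} (g : Y₁ ⟶ Y₂) (hf₁ : IsLocImmersion f₁) (hf₂ : IsLocImmersion f₂) [IsSeparated g]
    [EssFT.LocallyEssFiniteType g] (h : f₁ ≫ g = f₂) :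
    ∃ U : Y₁.Opens, Set.range (fun x => f₁ x) ⊆ (U : Set Y₁) ∧ IsLocImmersion (U.ι ≫ g) := by
  have hiso : ∀ x, IsIso (g.stalkMap (f₁ x)) := fun x => by
    haveI := isIso_stalkMap hf₁.1 x
    haveI h2 : IsIso ((f₁ ≫ g).stalkMap x) := by rw [h]; exact isIso_stalkMap hf₂.1 x
    rw [Scheme.Hom.stalkMap_comp] at h2
    exact @IsIso.of_isIso_comp_right _ _ _ _ _ (g.stalkMap (f₁ x)) (f₁.stalkMap x) inferInstance h2
  choose U V e hU hV hxV hl using fun x => exists_chart_of_isIso_stalkMap g (f₁ x) (hiso x)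
  let R := Set.range (fun x => f₁ x)
  let Bad : Set Y₁ := ⋃ T ∈ {T ∈ irreducibleComponents Y₁ | Disjoint T R}, T
  have hBad : IsClosed Bad :=
    ((TopologicalSpace.NoetherianSpace.finite_irreducibleComponents).subset fun T hT => hT.1).isClosed_biUnion
      fun T hT => isClosed_of_mem_irreducibleComponents T hT.1
  let W : Y₁.Opens := (⨆ x, V x) ⊓ ⟨Badᶜ, hBad.isOpen_compl⟩
  have hRW : R ⊆ (W : Set Y₁) := by
    rintro _ ⟨x, rfl⟩
    refine ⟨TopologicalSpace.Opens.mem_iSup.2 ⟨x, hxV x⟩, ?_⟩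
    intro hmem
    obtain ⟨T, hT, hxT⟩ := Set.mem_iUnion₂.1 hmem
    exact Set.disjoint_left.1 hT.2 hxT ⟨x, rfl⟩
  have hloc : IsLocalizing (W.ι ≫ g) := by
    refine isLocalizing_of_chart _ fun z => ?_
    obtain ⟨x, hx⟩ := TopologicalSpace.Opens.mem_iSup.1 z.2.1
    haveI : IsAffine (U x).toScheme := hU x
    haveI : IsAffine (V x).toScheme := hV x
    obtain ⟨hP, hF⟩ := isPreimmersion_chart g (hU x) (hV x) (e x) (hl x)
    obtain ⟨b, hble, hbz⟩ := (hV x).exists_basicOpen_le (V := W) ⟨z.1, z.2⟩ hx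
    have hl' := isLocHom_appLE_source g (hV x) (e x) (hl x) b
    refine ⟨Y₁.basicOpen b, U x, (hV x).basicOpen b, hU x, Y₁.homOfLE hble, (U x).ι, inferInstance, inferInstance,
      g.resLE _ _ ((Y₁.basicOpen_le b).trans (e x)), ?_, ⟨⟨z.1, hbz⟩, Subtype.ext (by simp [Scheme.homOfLE_apply'])⟩,
      isLocHom_resLE_appTop g _ hl'⟩
    rw [Scheme.homOfLE_ι_assoc, Scheme.Hom.resLE_comp_ι]
  haveI : IsSeparated (W.ι ≫ g) := inferInstance
  refine ⟨W, hRW, hloc, injective_of_injOn_maximal hloc ?_⟩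
  have hgen := (Groth.Agent.S18203.result f₁ hf₁).2.1
  have key : ∀ a : W.toScheme, (∀ a', a' ⤳ a → a' = a) → ∃ x, f₁ x = a.1 := by
    intro a ha
    have hmax : ∀ y : Y₁, y ⤳ a.1 → y = a.1 := by
      intro y hy
      have hyW : y ∈ W := hy.mem_open W.2 a.2
      exact congrArg Subtype.val (ha ⟨y, hyW⟩ (W.ι.isOpenEmbedding.isEmbedding.isInducing.specializes_iff.1 hy))
    by_contra hne
    refine a.2.2 ?_
    simp only [Bad, Set.mem_iUnion]
    refine ⟨irreducibleComponent a.1, ⟨irreducibleComponent_mem_irreducibleComponents _, ?_⟩, mem_irreducibleComponent⟩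
    rw [Set.disjoint_left]
    intro z hz hzR
    have hgp := (isIrreducible_irreducibleComponent (x := a.1)).isGenericPoint_genericPoint isClosed_irreducibleComponent
    have he := hmax _ (hgp.specializes mem_irreducibleComponent)
    obtain ⟨x, hx⟩ := hgen (hgp.specializes hz) hzR
    exact hne ⟨x, hx.trans he⟩
  intro a ha b hb hab
  obtain ⟨x, hx⟩ := key a ha
  obtain ⟨x', hx'⟩ := key b hb
  have : f₂ x = f₂ x' := by
    rw [← h, Scheme.Hom.comp_apply, Scheme.Hom.comp_apply, hx, hx']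
    exact hab
  rw [show x = x' from hf₂.2 this] at hx
  exact Subtype.ext (hx.symm.trans hx')

theorem isLocImmersion_of_comp_openImmersion {k : X ⟶ Y₁} {ι : Y₁ ⟶ Y₂} [IsOpenImmersion ι]
    (h : IsLocImmersion (k ≫ ι)) : IsLocImmersion k :=
  ⟨isLocalizing_of_comp_openImmersion h.1, fun a b hab => h.2 (congrArg ι.base hab)⟩

instance locallyEssFiniteType_of_locallyOfFiniteType (f : X ⟶ Y₁) [LocallyOfFiniteType f] :
    EssFT.LocallyEssFiniteType f where
  exists_appLE_essFiniteType x := by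
    obtain ⟨U, hU, hxU, -⟩ := exists_isAffineOpen_mem_and_subset (show f x ∈ (⊤ : Y₁.Opens) from trivial)
    obtain ⟨V, hV, hxV, hle⟩ := exists_isAffineOpen_mem_and_subset (show x ∈ f ⁻¹ᵁ U from hxU)
    refine ⟨⟨U, hU⟩, ⟨V, hV⟩, hxV, hle, ?_⟩
    have := LocallyOfFiniteType.finiteType_appLE f hU hV hle
    exact this.essFiniteType

theorem toImage_app_injective (γ : X ⟶ Y₁) [QuasiCompact γ] (U : γ.image.Opens) :
    Function.Injective (γ.toImage.app U).hom :=
  (TopCat.Presheaf.app_injective_iff_stalkFunctor_map_injective (F := γ.image.sheaf) γ.toImage.c).1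
    γ.stalkFunctor_toImage_injective U

theorem isNoetherian_open [IsNoetherian X] (U : X.Opens) : IsNoetherian U.toScheme := by
  haveI : IsLocallyNoetherian U.toScheme := LocallyOfFiniteType.isLocallyNoetherian U.ι
  haveI : CompactSpace U.toScheme :=
    isCompact_iff_compactSpace.1 (TopologicalSpace.NoetherianSpace.isCompact (U : Set X))
  exact ⟨⟩

/-- Two finite type models of a localizing immersion agree near it. -/
theorem exists_common_open {S : Scheme.{u}} [IsNoetherian X] [IsNoetherian Y₁] [IsNoetherian Y₂]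
    [IsNoetherian S] (f₁ : X ⟶ Y₁) (f₂ : X ⟶ Y₂) (π₁ : Y₁ ⟶ S) (π₂ : Y₂ ⟶ S) (hf₁ : IsLocImmersion f₁)
    (hf₂ : IsLocImmersion f₂) [IsSeparated π₁] [IsSeparated π₂] [LocallyOfFiniteType π₁] [LocallyOfFiniteType π₂]
    (h : f₁ ≫ π₁ = f₂ ≫ π₂) :
    ∃ (W : Scheme.{u}) (k : X ⟶ W) (g₁ : W ⟶ Y₁) (g₂ : W ⟶ Y₂), IsLocImmersion k ∧ IsOpenImmersion g₁ ∧
      IsOpenImmersion g₂ ∧ g₁ ≫ π₁ = g₂ ≫ π₂ ∧ k ≫ g₁ = f₁ ∧ k ≫ g₂ = f₂ := by
  haveI : IsLocallyNoetherian (pullback π₁ π₂) := LocallyOfFiniteType.isLocallyNoetherian (pullback.fst π₁ π₂)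
  haveI : QuasiCompact π₂ := inferInstance
  haveI : CompactSpace (pullback π₁ π₂ : Scheme.{u}) := QuasiCompact.compactSpace_of_compactSpace (pullback.fst π₁ π₂)
  haveI : IsNoetherian (pullback π₁ π₂) := ⟨⟩
  let γ : X ⟶ pullback π₁ π₂ := pullback.lift f₁ f₂ h
  let W₀ := γ.image
  let p₁ : W₀ ⟶ Y₁ := γ.imageι ≫ pullback.fst π₁ π₂
  let p₂ : W₀ ⟶ Y₂ := γ.imageι ≫ pullback.snd π₁ π₂
  haveI : IsLocallyNoetherian W₀ := LocallyOfFiniteType.isLocallyNoetherian p₁
  haveI : CompactSpace W₀ := QuasiCompact.compactSpace_of_compactSpace p₁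
  haveI : IsNoetherian W₀ := ⟨⟩
  have hp₁ : γ.toImage ≫ p₁ = f₁ := by simp [p₁, γ]
  have hp₂ : γ.toImage ≫ p₂ = f₂ := by simp [p₂, γ]
  have hk : IsLocImmersion γ.toImage :=
    ⟨isLocalizing_of_comp γ.toImage p₁ (by rw [hp₁]; exact hf₁) fun U => toImage_app_injective γ U,
      fun a b hab => hf₁.2 (by rw [← hp₁]; exact congrArg p₁.base hab)⟩
  obtain ⟨U₁, hU₁, hl₁⟩ := exists_open_isLocImmersion p₁ hk hf₁ hp₁
  obtain ⟨U₂, hU₂, hl₂⟩ := exists_open_isLocImmersion p₂ hk hf₂ hp₂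
  haveI := isNoetherian_open U₁
  haveI := isNoetherian_open U₂
  haveI : IsOpenImmersion (U₁.ι ≫ p₁) := by
    haveI := mono hl₁; haveI := flat hl₁.1
    exact IsOpenImmersion.of_flat_of_mono _
  haveI : IsOpenImmersion (U₂.ι ≫ p₂) := by
    haveI := mono hl₂; haveI := flat hl₂.1
    exact IsOpenImmersion.of_flat_of_mono _
  let U := U₁ ⊓ U₂
  have hrange : Set.range γ.toImage ⊆ Set.range U.ι := by
    rw [Scheme.Opens.range_ι]
    exact fun z hz => ⟨hU₁ hz, hU₂ hz⟩
  refine ⟨U, IsOpenImmersion.lift U.ι γ.toImage hrange, U.ι ≫ p₁, U.ι ≫ p₂, ?_, ?_, ?_, ?_, ?_, ?_⟩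
  · refine isLocImmersion_of_comp_openImmersion (ι := U.ι) ?_
    rwa [IsOpenImmersion.lift_fac]
  · rw [← Scheme.homOfLE_ι W₀ (inf_le_left : U ≤ U₁), Category.assoc]
    infer_instance
  · rw [← Scheme.homOfLE_ι W₀ (inf_le_right : U ≤ U₂), Category.assoc]
    infer_instance
  · simp [p₁, p₂, pullback.condition]
  · rw [IsOpenImmersion.lift_fac_assoc, hp₁]
  · rw [IsOpenImmersion.lift_fac_assoc, hp₂]

end Groth.Agent.LocImm10
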