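import Groth.Agent.LocImm10.Ring
import Mathlib.RingTheory.EssentialFiniteness
import Mathlib.RingTheory.Localization.AtPrime.Basic
import Mathlib.RingTheory.Noetherian.Defs

/-!
# An essentially finite type algebra with an isomorphism of local rings is locally a localization
-/

universe u

set_option linter.style.haveILetI false

namespace Groth.Agent.LocImm10

variable {A C : Type u} [CommRing A] [CommRing C] [Algebra A C]

theorem exists_away_isLocHom [IsNoetherianRing A] [Algebra.EssFiniteType A C] (p : Ideal A) [p.IsPrime]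
    (q : Ideal C) [q.IsPrime] (hq : p = q.comap (algebraMap A C))
    (hb : Function.Bijective (Localization.localRingHom p q (algebraMap A C) hq)) :
    ∃ c : C, c ∉ q ∧ LocImm.IsLocHom ((algebraMap C (Localization.Away c)).comp (algebraMap A C)) := by
  classical
  let h := Localization.localRingHom p q (algebraMap A C) hq
  let Cq := Localization.AtPrime q
  have hnot : ∀ s : p.primeCompl, algebraMap A C s.1 ∈ q.primeCompl := fun s hs => s.2 (hq ▸ hs)
  have hx : ∀ x : C, ∃ (a : A) (s : p.primeCompl) (u : q.primeCompl),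
      u.1 * (x * algebraMap A C s.1) = u.1 * algebraMap A C a := by
    intro x
    obtain ⟨z, hz⟩ := hb.2 (algebraMap C Cq x)
    obtain ⟨a, s, rfl⟩ := IsLocalization.exists_mk'_eq p.primeCompl z
    have e : algebraMap C Cq (x * algebraMap A C s.1) = algebraMap C Cq (algebraMap A C a) := by
      rw [map_mul, ← hz]
      have : h (IsLocalization.mk' (Localization.AtPrime p) a s) * h (algebraMap A _ s.1) = h (algebraMap A _ a) := by
        rw [← map_mul, IsLocalization.mk'_spec]
      rwa [Localization.localRingHom_to_map, Localization.localRingHom_to_map] at this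
    obtain ⟨u, hu⟩ := (IsLocalization.eq_iff_exists q.primeCompl Cq).1 e
    exact ⟨a, s, u, hu⟩
  choose a s u hu using hx
  let F := Algebra.EssFiniteType.finset A C
  let S : A := ∏ x ∈ F, (s x).1
  let U : C := ∏ x ∈ F, (u x).1
  let c₀ : C := U * algebraMap A C S
  have hc₀ : c₀ ∈ q.primeCompl :=
    mul_mem (prod_mem fun x _ => (u x).2) (hnot ⟨S, prod_mem fun x _ => (s x).2⟩)
  let J : Ideal A := RingHom.ker ((algebraMap C (Localization.Away c₀)).comp (algebraMap A C))
  obtain ⟨T, hT⟩ := Ideal.fg_of_isNoetherianRing J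
  have hkill : ∀ j ∈ J, ∃ t : p.primeCompl, t.1 * j = 0 := by
    intro j hj
    rw [RingHom.mem_ker, RingHom.comp_apply,
      IsLocalization.map_eq_zero_iff (Submonoid.powers c₀) (Localization.Away c₀)] at hj
    obtain ⟨⟨m, n, rfl⟩, hm⟩ := hj
    have h0 : algebraMap C Cq (algebraMap A C j) = 0 :=
      (IsLocalization.map_eq_zero_iff q.primeCompl Cq _).2 ⟨⟨_, pow_mem hc₀ n⟩, hm⟩
    rw [← Localization.localRingHom_to_map p q (algebraMap A C) hq j] at h0
    have h1 : algebraMap A (Localization.AtPrime p) j = 0 := hb.1 (h0.trans (map_zero _).symm)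
    exact (IsLocalization.map_eq_zero_iff p.primeCompl _ _).1 h1
  choose t ht using hkill
  let tt : p.primeCompl := ∏ j ∈ T.attach, t j.1 (hT ▸ Submodule.subset_span j.2)
  have htt : ∀ j ∈ J, tt.1 * j = 0 := by
    intro j hj
    have hle : Ideal.span (T : Set A) ≤ RingHom.ker (Ideal.Quotient.mk ((Ideal.span {tt.1}).annihilator)) := by
      rw [Ideal.span_le, Ideal.mk_ker]
      intro j' hj'
      rw [SetLike.mem_coe, Submodule.mem_annihilator_span_singleton, smul_eq_mul]
      obtain ⟨r, hr⟩ := Finset.dvd_prod_of_mem (fun j : T => t j.1 (hT ▸ Submodule.subset_span j.2))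
        (Finset.mem_attach T ⟨j', hj'⟩)
      show j' * (tt : p.primeCompl).1 = 0
      rw [show tt = _ * r from hr, Submonoid.coe_mul, ← mul_assoc, mul_comm j',
        ht j' (hT ▸ Submodule.subset_span hj'), zero_mul]
    have := hle (show j ∈ Ideal.span (T : Set A) from hT ▸ hj)
    rw [Ideal.mk_ker, Submodule.mem_annihilator_span_singleton, smul_eq_mul, mul_comm] at this
    exact this
  let c : C := c₀ * algebraMap A C tt.1
  refine ⟨c, mul_mem hc₀ (hnot tt), ?_⟩
  let B := Localization.Away c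
  let ψ : A →+* B := (algebraMap C B).comp (algebraMap A C)
  letI : Algebra A B := ψ.toAlgebra
  have hcu : IsUnit (algebraMap C B c) := IsLocalization.Away.algebraMap_isUnit c
  have hdvd : ∀ d : C, d ∣ c → IsUnit (algebraMap C B d) := fun d hd => isUnit_of_dvd_unit (map_dvd _ hd) hcu
  let M : Submonoid A := (IsUnit.submonoid B).comap ψ
  let B' : Subalgebra A B :=
    { carrier := {b | ∃ (a : A) (m : M), b * ψ m.1 = ψ a}
      mul_mem' := by
        rintro b b' ⟨a, m, hm⟩ ⟨a', m', hm'⟩
        exact ⟨a * a', m * m', by rw [Submonoid.coe_mul, map_mul, map_mul, mul_mul_mul_comm, hm, hm']⟩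
      add_mem' := by
        rintro b b' ⟨a, m, hm⟩ ⟨a', m', hm'⟩
        refine ⟨a * m'.1 + a' * m.1, m * m', ?_⟩
        rw [Submonoid.coe_mul, map_mul, map_add, map_mul, map_mul, ← hm, ← hm']
        ring
      algebraMap_mem' := fun a => ⟨a, 1, by simp [RingHom.algebraMap_toAlgebra]⟩ }
  have hgen : ∀ x ∈ F, algebraMap C B x ∈ B' := by
    intro x hx
    have hsu : IsUnit (ψ (s x).1) := hdvd _ (((map_dvd (algebraMap A C)
      (Finset.dvd_prod_of_mem (fun x => (s x).1) hx)).trans (dvd_mul_left _ _)).trans (dvd_mul_right _ _))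
    have huu : IsUnit (algebraMap C B (u x).1) :=
      hdvd _ (((Finset.dvd_prod_of_mem (fun x => (u x).1) hx).trans (dvd_mul_right _ _)).trans (dvd_mul_right _ _))
    refine ⟨a x, ⟨(s x).1, hsu⟩, huu.mul_left_cancel ?_⟩
    simpa [ψ, map_mul] using congrArg (algebraMap C B) (hu x)
  let f : C →ₐ[A] B := ⟨algebraMap C B, fun _ => rfl⟩
  have hinv : ∀ b ∈ B', ∀ w : B, IsUnit b → w * b = 1 → w ∈ B' := by
    rintro b ⟨a, m, hm⟩ w hb' hw
    have ha : a ∈ M := by
      show IsUnit (ψ a)
      rw [← hm]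
      exact hb'.mul m.2
    refine ⟨m.1, ⟨a, ha⟩, ?_⟩
    show w * ψ a = ψ m.1
    rw [← hm, ← mul_assoc, hw, one_mul]
  have hsub : ∀ x ∈ Algebra.adjoin A (F : Set C), f x ∈ B' := by
    intro x hx
    exact (show Algebra.adjoin A (F : Set C) ≤ B'.comap f from Algebra.adjoin_le hgen) hx
  have hC : ∀ x : C, f x ∈ B' := by
    intro x
    obtain ⟨y, z, hyz⟩ := IsLocalization.exists_mk'_eq (Algebra.EssFiniteType.submonoid A C) x
    obtain ⟨zi, hzi⟩ := z.2.exists_left_inv
    have hx : x = y.1 * zi := by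
      have h := IsLocalization.mk'_spec C y z
      rw [hyz] at h
      calc x = x * (algebraMap _ C z.1 * zi) := by rw [mul_comm _ zi, hzi, mul_one]
        _ = y.1 * zi := by rw [← mul_assoc, h]; rfl
    rw [hx, map_mul]
    refine B'.mul_mem (hsub _ y.2) (hinv _ (hsub _ z.1.2) _ (z.2.map f) ?_)
    rw [← map_mul]
    exact (congrArg f hzi).trans (map_one f)
  have hB : ∀ b : B, b ∈ B' := by
    intro b
    obtain ⟨x, ⟨_, n, rfl⟩, rfl⟩ := IsLocalization.exists_mk'_eq (Submonoid.powers c) b
    have hw : IsLocalization.mk' B (1 : C) (⟨c ^ n, n, rfl⟩ : Submonoid.powers c) * f (c ^ n) = 1 := by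
      show _ * algebraMap C B (c ^ n) = 1
      rw [IsLocalization.mk'_spec, map_one]
    rw [show IsLocalization.mk' B x (⟨c ^ n, n, rfl⟩ : Submonoid.powers c) =
      f x * IsLocalization.mk' B (1 : C) (⟨c ^ n, n, rfl⟩ : Submonoid.powers c) from
      IsLocalization.mk'_eq_mul_mk'_one _ _]
    exact B'.mul_mem (hC x) (hinv _ (hC (c ^ n)) _ ((IsLocalization.map_units B (⟨c ^ n, n, rfl⟩ : Submonoid.powers c) :)) hw)
  refine ⟨M, ⟨{ map_units := fun m => m.2, surj := fun b => ?_, exists_of_eq := fun {x y} hxy => ?_ }⟩⟩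
  · obtain ⟨a, m, hm⟩ := hB b
    exact ⟨⟨a, m⟩, hm⟩
  · obtain ⟨⟨_, n, rfl⟩, hn⟩ := (IsLocalization.eq_iff_exists (Submonoid.powers c) B).1 hxy
    have hMt : tt.1 ∈ M := hdvd _ (dvd_mul_left _ _)
    have hj : tt.1 ^ n * (x - y) ∈ J := by
      rw [RingHom.mem_ker, RingHom.comp_apply,
        IsLocalization.map_eq_zero_iff (Submonoid.powers c₀) (Localization.Away c₀)]
      refine ⟨⟨c₀ ^ n, n, rfl⟩, ?_⟩
      show c₀ ^ n * algebraMap A C (tt.1 ^ n * (x - y)) = 0
      simp only [c, mul_pow] at hn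
      rw [map_mul, map_pow, map_sub, ← mul_assoc, mul_sub]; exact sub_eq_zero.2 hn
    have h0 := htt _ hj
    refine ⟨⟨tt.1 ^ (n + 1), pow_mem hMt _⟩, sub_eq_zero.1 ?_⟩
    show tt.1 ^ (n + 1) * x - tt.1 ^ (n + 1) * y = 0
    rw [← mul_sub, pow_succ', mul_assoc, h0]

end Groth.Agent.LocImm10
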