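import Groth.Prelude.Def_W4c5cptfessfintypeLocImm
import Mathlib.RingTheory.RingHomProperties
import Mathlib.RingTheory.Localization.LocalizationLocalization
import Mathlib.RingTheory.Localization.BaseChange
import Mathlib.RingTheory.Localization.Away.Basic
import Mathlib.Algebra.Category.Ring.Constructions

/-!
# Localizing ring maps
-/

universe u

set_option linter.style.haveILetI false

open CategoryTheory

namespace Groth.Agent.LocImm10

variable {A B C : Type u} [CommRing A] [CommRing B] [CommRing C]

theorem isLocHom_iff [Algebra A B] :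
    LocImm.IsLocHom (algebraMap A B) ↔ ∃ S : Submonoid A, IsLocalization S B := by
  rw [LocImm.IsLocHom, toAlgebra_algebraMap]

theorem isLocHom_algebraMap [Algebra A B] (S : Submonoid A) [IsLocalization S B] :
    LocImm.IsLocHom (algebraMap A B) :=
  isLocHom_iff.2 ⟨S, inferInstance⟩

theorem isLocHom_comp {f : A →+* B} {g : B →+* C} (hf : LocImm.IsLocHom f) (hg : LocImm.IsLocHom g) :
    LocImm.IsLocHom (g.comp f) := by
  algebraize [f, g, g.comp f]
  obtain ⟨S, hS⟩ := hf
  obtain ⟨T, hT⟩ := hg
  exact ⟨_, IsLocalization.localization_localization_isLocalization S T C⟩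

theorem isLocHom_ringEquiv (e : A ≃+* B) : LocImm.IsLocHom e.toRingHom := by
  algebraize [e.toRingHom]
  haveI : IsLocalization (⊥ : Submonoid A) A := IsLocalization.self bot_le
  exact ⟨⊥, IsLocalization.isLocalization_of_algEquiv ⊥ (AlgEquiv.ofBijective (Algebra.ofId A B) e.bijective)⟩

theorem respectsIso : RingHom.RespectsIso (fun {R S : Type u} [CommRing R] [CommRing S] (f : R →+* S) =>
    LocImm.IsLocHom f) :=
  ⟨fun _ e hf => isLocHom_comp hf (isLocHom_ringEquiv e), fun _ e hf => isLocHom_comp (isLocHom_ringEquiv e) hf⟩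

theorem arrow_iso_iff {R S R' S' : CommRingCat.{u}} {f : R ⟶ S} {f' : R' ⟶ S'} (e : Arrow.mk f ≅ Arrow.mk f') :
    LocImm.IsLocHom f.hom ↔ LocImm.IsLocHom f'.hom :=
  respectsIso.arrow_mk_iso_iff e

/-- The base change of a localizing map is localizing. -/
theorem isLocHom_of_isPushout {R S T P : CommRingCat.{u}} {f : R ⟶ S} {g : R ⟶ T} {p : S ⟶ P} {q : T ⟶ P}
    (h : IsPushout f g p q) (hf : LocImm.IsLocHom f.hom) : LocImm.IsLocHom q.hom := by
  letI := f.hom.toAlgebra
  letI := g.hom.toAlgebra
  letI := p.hom.toAlgebra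
  letI := q.hom.toAlgebra
  letI : Algebra R P := (f ≫ p).hom.toAlgebra
  haveI : IsScalarTower R S P := IsScalarTower.of_algebraMap_eq fun x => rfl
  haveI : IsScalarTower R T P := IsScalarTower.of_algebraMap_eq fun x => CategoryTheory.congr_fun h.w x
  haveI : Algebra.IsPushout R S T P := CommRingCat.isPushout_iff_isPushout.1 h
  obtain ⟨M, hM⟩ := hf
  refine ⟨Algebra.algebraMapSubmonoid T M, ?_⟩
  exact (Algebra.isLocalization_iff_isPushout (A := S) M).2 (Algebra.IsPushout.symm inferInstance)

/-- Localizing maps stay localizing after inverting an element and its image. -/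
theorem isLocHom_away {f : A →+* B} (hf : LocImm.IsLocHom f) (a : A) {A' B' : Type u} [CommRing A']
    [CommRing B'] [Algebra A A'] [IsLocalization.Away a A'] [Algebra B B'] [IsLocalization.Away (f a) B']
    (g : A' →+* B') (h : g.comp (algebraMap A A') = (algebraMap B B').comp f) : LocImm.IsLocHom g := by
  algebraize [f, g]
  letI : Algebra A B' := ((algebraMap B B').comp f).toAlgebra
  haveI : IsScalarTower A B B' := IsScalarTower.of_algebraMap_eq fun x => rfl
  haveI : IsScalarTower A A' B' := IsScalarTower.of_algebraMap_eq fun x => (RingHom.congr_fun h x).symm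
  obtain ⟨S, hS⟩ := hf
  haveI := IsLocalization.localization_localization_isLocalization S (Submonoid.powers (f a)) B'
  refine ⟨_, IsLocalization.isLocalization_of_submonoid_le A' B' (Submonoid.powers a)
    (IsLocalization.localizationLocalizationSubmodule S (Submonoid.powers (f a))) ?_⟩
  rw [Submonoid.powers_le]
  exact IsLocalization.mem_localizationLocalizationSubmodule.2
    ⟨⟨f a, Submonoid.mem_powers _⟩, 1, by simp [RingHom.algebraMap_toAlgebra]⟩

/-- A map under a localizing map, injective and jointly surjective with it, is localizing. -/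
theorem isLocHom_of_injective_of_pushout {R S T P D : CommRingCat.{u}} {f : R ⟶ S} {g : R ⟶ T} {p : S ⟶ P}
    {q : T ⟶ P} (h : IsPushout f g p q) (hf : LocImm.IsLocHom f.hom) (φ : P ⟶ D)
    (hsurj : Function.Surjective φ.hom) (hinj : Function.Injective (q ≫ φ).hom) :
    LocImm.IsLocHom (q ≫ φ).hom := by
  have hq := isLocHom_of_isPushout h hf
  letI := q.hom.toAlgebra
  obtain ⟨M, hM⟩ := hq
  have hb : Function.Bijective φ.hom := by
    refine ⟨(injective_iff_map_eq_zero _).2 fun x hx => ?_, hsurj⟩
    obtain ⟨c, s, rfl⟩ := IsLocalization.exists_mk'_eq M x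
    have h1 : φ.hom (algebraMap T P c) = 0 := by
      rw [← IsLocalization.mk'_spec P c s, map_mul, hx, zero_mul]
    have : c = 0 := (map_eq_zero_iff _ hinj).1 h1
    rw [this, IsLocalization.mk'_zero]
  exact isLocHom_comp ⟨M, hM⟩ (isLocHom_ringEquiv (RingEquiv.ofBijective φ.hom hb))

end Groth.Agent.LocImm10
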